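import Cfsg.Agent.H414.T29.Aut3

/-!
# Groups between `Inn` and `Aut` of `PSL_n(q)`: conclusion (helper414, for S3629)
-/

set_option autoImplicit false
set_option linter.unusedSectionVars false

namespace Cfsg.Agent.H414.T29

open Cfsg.Agent.H403 NumTop Matrix
open Cfsg.Agent.H199.PslAut
open Cfsg.Agent.ClassicalGeometry.AutPSL.Root
open Cfsg.Agent.ClassicalGeometry.AutPSL.Auto

section

variable {F : Type*} [Field F] [Fintype F] {k m : ℕ}

/-- a Jordan block of order 4 -/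
def jord (F : Type*) [Field F] : Matrix (Fin 3) (Fin 3) F := !![1, 1, 0; 0, 1, 1; 0, 0, 1]

theorem jord_sq [CharP F 2] : jord F ^ 2 = !![1, 0, 1; 0, 1, 0; 0, 0, 1] := by
  have h2 : (1 : F) + 1 = 0 := CharTwo.add_self_eq_zero 1
  rw [sq, jord]
  ext i j
  fin_cases i <;> fin_cases j <;> simp [Matrix.mul_apply, Fin.sum_univ_three, h2]

theorem orderOf_jord [CharP F 2] : orderOf (jord F) = 4 := by
  have h2 : (1 : F) + 1 = 0 := CharTwo.add_self_eq_zero 1
  have hf2 : Fact (Nat.Prime 2) := ⟨Nat.prime_two⟩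
  have h4 : jord F ^ 4 = 1 := by
    rw [show 4 = 2 * 2 by norm_num, pow_mul, jord_sq, sq]
    ext i j
    fin_cases i <;> fin_cases j <;> simp [Matrix.mul_apply, Fin.sum_univ_three, h2]
  have h1 : jord F ^ 2 ≠ 1 := by
    rw [jord_sq]
    intro h
    have := congrFun (congrFun h 0) 2
    simp at this
  exact orderOf_eq_prime_pow (p := 2) (n := 1) (by simpa using h1) (by simpa using h4)

theorem det_jord : (jord F).det = 1 := by
  rw [jord, Matrix.det_fin_three]
  simp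

/-- elements of order `4 w` -/
theorem exists_four (hF : Fintype.card F = 2 ^ k) (hm : 4 ≤ m) {w : ℕ} (hw : Pp w ((2 ^ m - 3) * k)) :
    ∃ A : Matrix.SpecialLinearGroup (Fin (2 ^ m)) F, orderOf A = 4 * w := by
  have hn16 := sixteen_le hm
  have hk := one_lt hF
  have hc2 := charTwo hF
  obtain ⟨M, hM⟩ := exists_mat_lin (F := F) (i := 2 ^ m - 3) (N := w) hF (by omega) (by
    rw [← pow_mul, hw.dvd_iff, mul_comm])
  have hwq : ¬ w ∣ 2 ^ k - 1 := hw.not_dvd hk (by
    have : 13 * k ≤ (2 ^ m - 3) * k := Nat.mul_le_mul_right k (by omega)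
    omega)
  have hdet : M.det = 1 := det_one_of_order hF hw.prime hwq (by rw [← hM]; exact pow_orderOf_eq_one _)
  let f : Matrix (Fin (2 ^ m - 3)) (Fin (2 ^ m - 3)) F × Matrix (Fin 3) (Fin 3) F →*
      Matrix (Fin (2 ^ m - 3) ⊕ Fin 3) (Fin (2 ^ m - 3) ⊕ Fin 3) F :=
    { toFun := fun A => fromBlocks A.1 0 0 A.2
      map_one' := fromBlocks_one
      map_mul' := fun A B => by rw [fromBlocks_multiply]; simp }
  have hf : Function.Injective f := by
    intro A B hAB
    have := fromBlocks_inj.1 hAB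
    exact Prod.ext this.1 this.2.2.2
  have hw2 : w ≠ 2 := hw.ne_two (Nat.mul_pos (by omega) hk)
  have ho : orderOf (f (M, jord F)) = 4 * w := by
    rw [orderOf_injective f hf, Prod.orderOf_mk, hM, orderOf_jord, Nat.lcm_comm]
    apply Nat.Coprime.lcm_eq_mul
    exact Nat.Coprime.pow_left 2 ((Nat.coprime_primes Nat.prime_two hw.prime).2 (Ne.symm hw2))
  have hd : (f (M, jord F)).det = 1 := by
    change (fromBlocks M 0 0 (jord F)).det = 1
    rw [det_fromBlocks_zero₂₁, hdet, det_jord, mul_one]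
  let A : Matrix.SpecialLinearGroup (Fin (2 ^ m - 3) ⊕ Fin 3) F := ⟨_, hd⟩
  let e : Fin (2 ^ m - 3) ⊕ Fin 3 ≃ Fin (2 ^ m) := finSumFinEquiv.trans (finCongr (by omega))
  refine ⟨H376.WordEmb.reidx e A, ?_⟩
  rw [orderOf_injective _ (H376.WordEmb.reidx_injective e), ← orderOf_sl]
  exact ho

variable {Y : Subgroup (MulAut (PL m F))}
  (hinn : ∀ a, MulAut.conj a ∈ Y) (hω : ∀ y ∈ Y, ∃ g : PL m F, orderOf g = orderOf y)

theorem ord_sub {k₀ s w j : ℕ} (hk₀ : 1 ≤ k₀) (hs : s.Prime) (hw : Pp w (j * k₀)) (hj : ¬ s ∣ j) :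
    orderOf ((2 ^ (k₀ * s) : ℕ) : ZMod w) = j := by
  rw [hw.ord_pow (Nat.mul_pos hk₀ hs.pos).ne', mul_comm k₀ s, Nat.gcd_mul_right,
    Nat.Coprime.gcd_eq_one ((Nat.Prime.coprime_iff_not_dvd hs).2 hj).symm, one_mul, Nat.mul_div_cancel _ (by omega)]

include hinn hω in
/-- **Field automorphisms of odd prime order** -/
theorem field_odd (hF : Fintype.card F = 2 ^ k) (hm : 4 ≤ m) {σ : F ≃+* F} {s : ℕ} (hs : s.Prime) (hs2 : s ≠ 2)
    (hσ : orderOf σ = s) (hY : phi (2 ^ m) F σ ∈ Y) : False := by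
  have hn16 := sixteen_le hm
  obtain ⟨F₀, _, _, k₀, j, hF₀, hk₀, hk, hj⟩ := exists_fixed_field hF hσ hs.pos
  have hk1 := one_lt hF
  have hcop : ∀ {w : ℕ}, w.Prime → w ≠ s → Nat.Coprime s w := fun hw h => (Nat.coprime_primes hs hw).2 (Ne.symm h)
  -- products
  have key : ∀ A : Matrix.SpecialLinearGroup (Fin (2 ^ m)) F₀, Nat.Coprime s (orderOf A) →
      ∃ g : PL m F, orderOf g = s * orderOf A := by
    intro A hA
    obtain ⟨h, hh, ho⟩ := exists_fixed hF j hj A
    obtain ⟨g, hg⟩ := exists_mul hinn hω hF hY (by rw [orderOf_phi hm, hσ]) hh (by rw [ho]; exact hA)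
    exact ⟨g, by rw [hg, ho]⟩
  have hsn : ¬ s ∣ 2 ^ m := fun h => hs2 ((Nat.prime_dvd_prime_iff_eq hs Nat.prime_two).1 (hs.dvd_of_dvd_pow h))
  -- the top prime
  have h1 : s ∣ ((2 ^ k) ^ (2 ^ m) - 1) / (2 ^ k - 1) := by
    obtain ⟨w, hw⟩ := exists_pp (i := 2 ^ m * k₀) (by nlinarith)
    rcases eq_or_ne w s with rfl | hws
    · have h2 : w ∣ (2 ^ k) ^ (2 ^ m) - 1 := by
        rw [← pow_mul, hw.dvd_iff, hk]
        exact ⟨w, by ring⟩
      have h3 : 2 ^ k - 1 ∣ (2 ^ k) ^ (2 ^ m) - 1 := by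
        have := Nat.sub_dvd_pow_sub_pow (2 ^ k) 1 (2 ^ m)
        rwa [one_pow] at this
      rw [← Nat.mul_div_cancel' h3] at h2
      refine (hs.dvd_mul.1 h2).resolve_left ?_
      rw [hw.dvd_iff, hk]
      intro h
      rw [mul_comm] at h
      have h4 : 2 ^ m ∣ w := Nat.dvd_of_mul_dvd_mul_left (by omega) h
      have h5 : 2 ∣ w := (dvd_pow_self 2 (by omega)).trans h4
      exact hs2 ((Nat.prime_dvd_prime_iff_eq Nat.prime_two hs).1 h5).symm
    · obtain ⟨g, hg⟩ := exists_of_pp (m := m) hF₀ (by omega) (by omega) le_rfl hw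
      obtain ⟨A, hA⟩ := exists_sl hF₀ g
      obtain ⟨x, hx⟩ := key A (by rw [hA, hg]; exact hcop hw.prime hws)
      rw [hA, hg] at hx
      have h2 := top hF (by omega) x hw.prime (by rw [hk]; exact ord_sub hk₀ hs hw hsn)
        (by rw [hx]; exact dvd_mul_left _ _)
      rw [hx] at h2
      exact (dvd_mul_right _ _).trans h2
  have hodd : Odd (2 ^ m - 1) := by
    obtain ⟨c, rfl⟩ : ∃ c, m = c + 1 := ⟨m - 1, by omega⟩
    exact ⟨2 ^ c - 1, by rw [pow_succ]; omega⟩
  by_cases hsd : s ∣ 2 ^ m - 1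
  · -- `s ∣ n - 1`
    have hsd3 : ¬ s ∣ 2 ^ m - 3 := by
      intro h
      have h4 := Nat.dvd_sub hsd h
      have h5 : 2 ^ m - 1 - (2 ^ m - 3) = 2 := by omega
      rw [h5] at h4
      exact hs2 ((Nat.prime_dvd_prime_iff_eq hs Nat.prime_two).1 h4)
    have hodd3 : Odd (2 ^ m - 3) := by
      obtain ⟨c, hc⟩ := hodd
      exact ⟨c - 1, by omega⟩
    obtain ⟨w, hw⟩ := exists_pp (i := (2 ^ m - 3) * k₀) (by
      have : 13 * 1 ≤ (2 ^ m - 3) * k₀ := Nat.mul_le_mul (by omega) hk₀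
      omega)
    refine arith_contra hk1 hs h1 (j := 2 ^ m - 3) ?_ hodd3
    rcases eq_or_ne w s with rfl | hws
    · rw [← pow_mul, hw.dvd_iff, hk]
      exact ⟨w, by ring⟩
    · obtain ⟨A, hA⟩ := exists_four hF₀ hm hw
      obtain ⟨x, hx⟩ := key A (by
        rw [hA]
        exact Nat.Coprime.mul_right (Nat.Coprime.pow_right 2 ((Nat.coprime_primes hs Nat.prime_two).2 hs2))
          (hcop hw.prime hws))
      exact three hF (by omega) x hw.prime hs hs2 (by rw [hk]; exact ord_sub hk₀ hs hw hsd3) (by rw [hx, hA]; ring)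
  · obtain ⟨w, hw⟩ := exists_pp (i := (2 ^ m - 1) * k₀) (by
      have : 15 * 1 ≤ (2 ^ m - 1) * k₀ := Nat.mul_le_mul (by omega) hk₀
      omega)
    refine arith_contra hk1 hs h1 (j := 2 ^ m - 1) ?_ hodd
    rcases eq_or_ne w s with rfl | hws
    · rw [← pow_mul, hw.dvd_iff, hk]
      exact ⟨w, by ring⟩
    · obtain ⟨g, hg⟩ := exists_of_pp (m := m) hF₀ (by omega) (by omega) (by omega) hw
      obtain ⟨A, hA⟩ := exists_sl hF₀ g
      obtain ⟨x, hx⟩ := key A (by rw [hA, hg]; exact hcop hw.prime hws)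
      rw [hA, hg] at hx
      have h2 := far hF (by omega) x hw.prime (by rw [hk]; exact ord_sub hk₀ hs hw hsd)
        (by rw [hx]; exact dvd_mul_left _ _)
      rw [hx] at h2
      exact (dvd_mul_right _ _).trans h2

include hinn hω in
/-- **Field automorphisms** -/
theorem field_eq_one (hF : Fintype.card F = 2 ^ k) (hm : 4 ≤ m) {σ : F ≃+* F} (hY : phi (2 ^ m) F σ ∈ Y) : σ = 1 := by
  by_contra h1
  have hfin : Finite (F ≃+* F) := Finite.of_injective (fun σ => (σ : F → F)) DFunLike.coe_injective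
  have h0 : orderOf σ ≠ 1 := fun h => h1 (orderOf_eq_one_iff.1 h)
  obtain ⟨s, hs, c, hc⟩ := Nat.exists_prime_and_dvd h0
  have hc0 : c ≠ 0 := by
    rintro rfl
    rw [mul_zero] at hc
    exact (orderOf_pos σ).ne' hc
  have ho : orderOf (σ ^ c) = s := by
    rw [orderOf_pow_of_dvd hc0 (by rw [hc]; exact dvd_mul_left _ _), hc, Nat.mul_div_cancel _ (Nat.pos_of_ne_zero hc0)]
  have hY' : phi (2 ^ m) F (σ ^ c) ∈ Y := by rw [map_pow]; exact Y.pow_mem hY c
  rcases eq_or_ne s 2 with rfl | hs2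
  · exact field_two hinn hω hF hm ho hY'
  · exact field_odd hinn hω hF hm hs hs2 ho hY'

include hinn hω in
/-- **The theorem on `Aut`**: groups between `Inn` and `Aut` -/
theorem eq_conj (hF : Fintype.card F = 2 ^ k) (hm : 4 ≤ m) {y : MulAut (PL m F)} (hy : y ∈ Y) :
    ∃ a, y = MulAut.conj a := by
  have hn16 := sixteen_le hm
  rcases exists_form (by omega) y with ⟨g, σ, h⟩ | ⟨-, g, σ, h⟩
  · obtain ⟨a, ha⟩ := psi_inner hF g
    have h1 : phi (2 ^ m) F σ ∈ Y := by
      have h2 := Y.mul_mem (Y.inv_mem (hinn a)) hy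
      rwa [h, ha, inv_mul_cancel_left] at h2
    have h2 := field_eq_one hinn hω hF hm h1
    exact ⟨a, by rw [h, ha, h2, map_one, mul_one]⟩
  · exfalso
    obtain ⟨a, ha⟩ := psi_inner hF g
    have h1 : phi (2 ^ m) F σ * iot (2 ^ m) F ∈ Y := by
      have h2 := Y.mul_mem (Y.inv_mem (hinn a)) hy
      rwa [h, ha, mul_assoc, inv_mul_cancel_left] at h2
    have h2 : phi (2 ^ m) F (σ * σ) ∈ Y := by
      have h3 := Y.mul_mem h1 h1
      rwa [mul_assoc, ← mul_assoc (iot (2 ^ m) F), iot_mul_phi, mul_assoc (phi (2 ^ m) F σ) (iot (2 ^ m) F),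
        iot_mul_iot, mul_one, ← map_mul] at h3
    have h3 := field_eq_one hinn hω hF hm h2
    rcases eq_or_ne σ 1 with rfl | hσ
    · rw [map_one, one_mul] at h1
      exact iot_notMem hinn hω hF hm h1
    · exact graph_field hinn hω hF hm (orderOf_eq_prime (by rw [sq, h3]) hσ) h1

end

/-- **Almost simple groups.** -/
theorem almost {F : Type*} [Field F] [Fintype F] {k m : ℕ} (hF : Fintype.card F = 2 ^ k) (hm : 4 ≤ m)
    {X : Type*} [Group X] (S : Subgroup X) [S.Normal] (e : S ≃* PL m F)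
    (hC : Subgroup.centralizer (S : Set X) = ⊥) (hω : ∀ x : X, ∃ g : PL m F, orderOf g = orderOf x) : S = ⊤ := by
  let f : X →* MulAut (PL m F) := (MulAut.congr e).toMonoidHom.comp MulAut.conjNormal
  have hfS : ∀ s : S, f s = MulAut.conj (e s) := by
    intro s
    apply MulEquiv.ext
    intro x
    obtain ⟨t, rfl⟩ := e.surjective x
    change e (MulAut.conjNormal (s : X) (e.symm (e t))) = e s * e t * (e s)⁻¹
    rw [e.symm_apply_apply, ← map_mul, ← map_inv, ← map_mul]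
    congr 1
  have hinj : Function.Injective f := by
    rw [injective_iff_map_eq_one]
    intro x hx
    have h1 : x ∈ Subgroup.centralizer (S : Set X) := by
      rw [Subgroup.mem_centralizer_iff]
      intro y hy
      have h2 := DFunLike.congr_fun hx (e ⟨y, hy⟩)
      change e (MulAut.conjNormal x (e.symm (e ⟨y, hy⟩))) = e ⟨y, hy⟩ at h2
      rw [e.symm_apply_apply] at h2
      have h3 := congrArg Subtype.val (e.injective h2)
      rw [MulAut.conjNormal_apply] at h3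
      change x * y * x⁻¹ = y at h3
      rw [mul_inv_eq_iff_eq_mul] at h3
      exact h3.symm
    rwa [hC, Subgroup.mem_bot] at h1
  rw [eq_top_iff]
  intro x _
  obtain ⟨a, ha⟩ := eq_conj (Y := f.range) (fun a => ⟨((e.symm a : S) : X), by rw [hfS, e.apply_symm_apply]⟩)
    (by
      rintro _ ⟨x, rfl⟩
      rw [orderOf_injective f hinj]
      exact hω x) hF hm (y := f x) ⟨x, rfl⟩
  have h1 : x = ((e.symm a : S) : X) := hinj (by rw [hfS, e.apply_symm_apply, ha])
  rw [h1]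
  exact (e.symm a).2

end Cfsg.Agent.H414.T29
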