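import Cfsg.Agent.H403.SpEvenFinal
import Cfsg.Agent.H403.EltUni
import Cfsg.Agent.H377.ToOmega
import Cfsg.Agent.ClassicalGeometry.OrthDickson

/-!
# Elements of order `2 ^ (m + 1)` in classical groups in characteristic two (helper414)

For `n = 2 ^ m`, `m ≥ 4`, the groups `PSp_2n(q)`, `PΩ⁺_2(n+1)(q)`, `PΩ⁻_2n(q)`, `q` even, contain elements of order
`2 ^ (m + 1)`.
-/

set_option autoImplicit false
set_option linter.unusedSectionVars false
set_option linter.style.haveILetI false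

namespace Cfsg.Agent.H414.T29

open QuadraticMap Cfsg
open Cfsg.Agent.LieClassical.OrthCore Cfsg.Agent.LieClassical.OrthForms
open Cfsg.Agent.H403 Cfsg.Agent.H403.Classify
open Cfsg.Agent.ClassicalGeometry.Reflection Cfsg.Agent.ClassicalGeometry.OrthDickson

section

variable {F : Type*} [Field F] [Finite F] [CharP F 2]

theorem isPlus_of_hasSign {V : Type*} [AddCommGroup V] [Module F V]
    [Finite V] {Q : QuadraticForm F V} (hQ : Nondeg Q) {n : ℕ} (h : H403.HasSign (⇑Q) n 1) :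
    IsPlus Q n := by
  have : FiniteDimensional F V := Module.Finite.of_finite
  obtain ⟨ψ, hψ⟩ := exists_addChar (F := F)
  have hq : (1 : ℤ) < Nat.card F := by exact_mod_cast Finite.one_lt_card
  obtain ⟨m, hm | hm⟩ := classify Q hQ
  · obtain ⟨e, he⟩ := hm
    have h1 := ((hasSign_plusForm (F := F) m).congr e.toEquiv he) ψ hψ
    rw [h ψ hψ] at h1
    have h2 : (Nat.card F : ℤ) ^ n = (Nat.card F : ℤ) ^ m := by linear_combination h1
    have h3 : Nat.card F ^ n = Nat.card F ^ m := by exact_mod_cast h2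
    have h4 := Nat.pow_right_injective (Finite.one_lt_card (α := F)) h3
    rw [h4]
    exact ⟨e, he⟩
  · exfalso
    obtain ⟨a, b, hab, e, he⟩ := hm
    have h1 := ((hasSign_minusForm (F := F) m hab).congr e.toEquiv he) ψ hψ
    rw [h ψ hψ] at h1
    have h2 : (0 : ℤ) < (Nat.card F : ℤ) ^ n := by positivity
    have h3 : (0 : ℤ) < (Nat.card F : ℤ) ^ (m + 1) := by positivity
    omega

/-- An isometry of order `2 ^ a` fixing a nonsingular vector gives an element of `POmega` of order `2 ^ a`. -/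
theorem exists_of_fix {ι : Type} [Fintype ι] [DecidableEq ι] (Q : QuadraticForm F (ι → F)) (hQ : Nondeg Q)
    (h5 : 5 ≤ Fintype.card ι) (T : Matrix ι ι F) (hT : ∀ v, Q (T.mulVec v) = Q v) {a : ℕ} (ha : 2 ≤ a)
    (ho : orderOf T = 2 ^ a) (v : ι → F) (hv : Q v ≠ 0) (hTv : T.mulVec v = v) :
    ∃ g : POmega F ⇑Q, orderOf g = 2 ^ a := by
  have h2 : (2 : F) = 0 := CharTwo.two_eq_zero
  have hQ' := H377.nondegenerate_of_nondeg hQ
  have hne : Nonempty ι := by
    rw [← Fintype.card_pos_iff]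
    omega
  have hTN : T ^ 2 ^ a = 1 := by rw [← ho]; exact pow_orderOf_eq_one T
  have hpos : 0 < 2 ^ a := by positivity
  let U : Matrix.GeneralLinearGroup ι F :=
    ⟨T, T ^ (2 ^ a - 1), by rw [← pow_succ', Nat.sub_add_cancel hpos, hTN],
      by rw [← pow_succ, Nat.sub_add_cancel hpos, hTN]⟩
  have hU : U ∈ Cfsg.isometryGroup F ⇑Q := by
    rw [Cfsg.Agent.LieClassical.OrthFinite.mem_isometryGroup_iff]
    intro u
    exact hT u
  let g : isometryGroup F ⇑Q := ⟨U, hU⟩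
  have hgo : orderOf g = 2 ^ a := by
    rw [← ho]
    change orderOf (⟨U, hU⟩ : isometryGroup F ⇑Q) = _
    rw [Subgroup.orderOf_mk, ← orderOf_units]
  let r := reflIso Q v hv
  have hr : r * r = 1 := reflIso_mul_self Q v hv
  have hcomm : Commute g r := by
    have hgv : ((g : Matrix.GeneralLinearGroup ι F) : Matrix ι ι F).mulVec v = v := hTv
    have h1 := conj_reflIso Q v hv g (by rw [hgv]; exact hv)
    have h3 : reflIso Q (((g : Matrix.GeneralLinearGroup ι F) : Matrix ι ι F).mulVec v) (by rw [hgv]; exact hv) = r := by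
      simp only [hgv]
      rfl
    rw [h3] at h1
    exact mul_inv_eq_iff_eq_mul.1 h1
  have hidx := index_commutator_two Q h2 hQ' (Or.inr (by omega))
  have hrn : r ∉ commutator (Cfsg.isometryGroup F (⇑Q)) := refl_notMem_commutator Q hQ' (Or.inr (by omega)) v hv
  obtain ⟨z, hz, hzo⟩ : ∃ z : isometryGroup F ⇑Q, z ∈ Omega F ⇑Q ∧ orderOf z = 2 ^ a := by
    by_cases hg : g ∈ Omega F ⇑Q
    · exact ⟨g, hg, hgo⟩
    · refine ⟨r * g, ?_, ?_⟩
      · refine (Subgroup.mul_mem_iff_of_index_two hidx).2 ?_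
        exact ⟨fun h => absurd h hrn, fun h => absurd h hg⟩
      · obtain ⟨b, rfl⟩ : ∃ b, a = b + 1 := ⟨a - 1, by omega⟩
        have hsq : (r * g) ^ 2 = g ^ 2 := by
          rw [hcomm.symm.mul_pow, pow_two r, hr, one_mul]
        apply orderOf_eq_prime_pow
        · obtain ⟨c, rfl⟩ : ∃ c, b = c + 1 := ⟨b - 1, by omega⟩
          rw [pow_succ' 2 c, pow_mul, hsq, ← pow_mul, ← pow_succ', ← orderOf_dvd_iff_pow_eq_one, hgo]
          intro h
          have := (Nat.pow_dvd_pow_iff_le_right (x := 2) (by norm_num)).1 h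
          omega
        · rw [pow_succ' 2 b, pow_mul, hsq, ← pow_mul, ← pow_succ', ← hgo]
          exact pow_orderOf_eq_one g
  let w : Omega F ⇑Q := ⟨z, hz⟩
  have hwo : orderOf w = 2 ^ a := by
    rw [← hzo]
    exact Subgroup.orderOf_mk z hz
  have hs : ∃ u : ι → F, u ≠ 0 ∧ Q u = 0 := by
    obtain ⟨w, -, h1, h2⟩ := Cfsg.Agent.LieClassical.OrthFinite.exists_sing_mem (Q := Q) (⊤ : Submodule F (ι → F)) (by
      rw [finrank_top, Module.finrank_fintype_fun_eq_card]
      omega)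
    exact ⟨w, h1, h2⟩
  refine ⟨QuotientGroup.mk w, H377.orderOf_eq_of_forall fun j => ?_⟩
  rw [← QuotientGroup.mk_pow, QuotientGroup.eq_one_iff,
    Cfsg.Agent.LieClassical.OrthCenter.mem_center_omega_iff hQ' (by omega) hs, ← hwo, orderOf_dvd_iff_pow_eq_one]
  have hneg : (-1 : Matrix ι ι F) = 1 := by
    have h4 : (2 : Matrix ι ι F) = 0 := by
      have h5 := congrArg (algebraMap F (Matrix ι ι F)) h2
      rwa [map_ofNat, map_zero] at h5
    rw [neg_eq_iff_add_eq_zero, one_add_one_eq_two, h4]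
  rw [hneg, or_self]
  constructor
  · intro h
    apply Subtype.ext
    apply Subtype.ext
    apply Units.ext
    exact h
  · intro h
    rw [h]
    rfl

/-- version with an abstract space -/
theorem exists_of_fix' {ι : Type} [Fintype ι] [DecidableEq ι] (Q : QuadraticForm F (ι → F)) (hQ : Nondeg Q)
    (h5 : 5 ≤ Fintype.card ι) {V : Type*} [AddCommGroup V] [Module F V] (Q' : V → F) (e : (ι → F) ≃ₗ[F] V)
    (he : ∀ u, Q' (e u) = Q u) (T : Module.End F V) (hT : ∀ v, Q' (T v) = Q' v) {a : ℕ} (ha : 2 ≤ a)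
    (ho : orderOf T = 2 ^ a) (v : V) (hv : Q' v ≠ 0) (hTv : T v = v) :
    ∃ g : POmega F ⇑Q, orderOf g = 2 ^ a := by
  let φ : Module.End F V ≃ₐ[F] Matrix ι ι F := (e.symm.conjAlgEquiv F).trans LinearMap.toMatrixAlgEquiv'
  have hφ : ∀ (S : Module.End F V) (x : ι → F), (φ S).mulVec x = e.symm (S (e x)) := by
    intro S x
    show (LinearMap.toMatrix' (e.symm.conj S)).mulVec x = _
    rw [LinearMap.toMatrix'_mulVec]
    rfl
  refine exists_of_fix Q hQ h5 (φ T) ?_ ha ?_ (e.symm v) ?_ ?_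
  · intro x
    rw [← he, ← he, hφ, e.apply_symm_apply, hT]
  · rw [← ho]
    exact MulEquiv.orderOf_eq φ.toMulEquiv T
  · rw [← he, e.apply_symm_apply]
    exact hv
  · rw [hφ, e.apply_symm_apply, hTv]

/-- orthogonal sum of an isometry of order `N` with the identity of a nonzero space -/
theorem exists_sum {r s : ℕ} {ε ε' : ℤ} {N : ℕ} (h : H403.Elt F r ε N) (hs : 1 ≤ s) (h' : H403.Elt F s ε' 1) :
    ∃ (d d' : ℕ) (Q : QuadraticForm F ((Fin d → F) × (Fin d' → F)))
      (g : Module.End F ((Fin d → F) × (Fin d' → F))) (v : (Fin d → F) × (Fin d' → F)), Nondeg Q ∧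
      H403.HasSign (⇑Q) (r + s) (ε * ε') ∧ (∀ v, Q (g v) = Q v) ∧ orderOf g = N ∧ Q v ≠ 0 ∧ g v = v := by
  obtain ⟨hN, d, Q, g, hQ, hs, hg, ho⟩ := h
  obtain ⟨-, d', Q', -, hQ', hs', -, -⟩ := h'
  obtain ⟨w, hw⟩ : ∃ w, Q' w ≠ 0 := by
    by_contra hcon
    push Not at hcon
    obtain ⟨ψ, hψ⟩ := exists_addChar (F := F)
    -- the space is trivial
    have h0 : ∀ x : Fin d' → F, x = 0 := fun x => hQ' x fun y => by
      rw [polar, hcon, hcon, hcon, sub_zero, sub_zero]
    have h1 := hs' ψ hψ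
    have := Fintype.ofFinite F
    rw [gs_eq, Finset.sum_congr rfl (fun v _ => by rw [hcon v, AddChar.map_zero_eq_one])] at h1
    have h2 : Fintype.card (Fin d' → F) = 1 := by
      rw [Fintype.card_eq_one_iff]
      exact ⟨0, h0⟩
    rw [Finset.sum_const, Finset.card_univ, h2, one_smul] at h1
    have h3 : (Nat.card F : ℤ) ∣ 1 := by
      rw [h1]
      exact Dvd.dvd.mul_left (dvd_pow_self _ (by omega)) _
    have h4 : Nat.card F ∣ 1 := by exact_mod_cast h3
    have h5 := Finite.one_lt_card (α := F)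
    have h6 := Nat.dvd_one.1 h4
    omega
  refine ⟨d, d', Q.comp (LinearMap.fst F _ _) + Q'.comp (LinearMap.snd F _ _), g.prodMap 1, (0, w), ?_, hs.prod hs', ?_,
    ?_, ?_, ?_⟩
  · intro x hx
    refine Prod.ext (hQ _ fun y => ?_) (hQ' _ fun y => ?_)
    · have := hx (y, 0)
      simp only [polar, add_apply, QuadraticMap.comp_apply, LinearMap.fst_apply, LinearMap.snd_apply,
        Prod.fst_add, Prod.snd_add, add_zero, QuadraticMap.map_zero] at this
      rw [polar]
      linear_combination this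
    · have := hx (0, y)
      simp only [polar, add_apply, QuadraticMap.comp_apply, LinearMap.fst_apply, LinearMap.snd_apply,
        Prod.fst_add, Prod.snd_add, add_zero, QuadraticMap.map_zero] at this
      rw [polar]
      linear_combination this
  · intro v
    simp only [add_apply, QuadraticMap.comp_apply, LinearMap.fst_apply, LinearMap.snd_apply,
      LinearMap.prodMap_apply, hg, Module.End.one_apply]
  · rw [H377.orderOf_prodMap, ho, orderOf_one, Nat.lcm_one_right]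
  · simp only [add_apply, QuadraticMap.comp_apply, LinearMap.fst_apply, LinearMap.snd_apply, QuadraticMap.map_zero,
      zero_add]
    exact hw
  · simp

theorem mb_succ {m : ℕ} (hm : 1 ≤ m) : mb (m + 1) = 2 ^ (m - 1) + 1 := by
  obtain ⟨c, rfl⟩ : ∃ c, m = c + 1 := ⟨m - 1, by omega⟩
  simp [mb]

theorem elt_minus_one {s : ℕ} (hs : 1 ≤ s) : H403.Elt F s (-1) 1 := by
  have h := (H403.elt_one (F := F) (s - 1)).prod (H403.elt_ell (F := F) (N := 1) (one_dvd _))
  rw [one_mul, Nat.lcm_self, show s - 1 + 1 = s by omega] at h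
  exact h

theorem two_psp {m : ℕ} (hm : 1 ≤ m) : ∃ g : Cfsg.PSp (2 ^ m) F, orderOf g = 2 ^ (m + 1) := by
  obtain ⟨μ, hμ⟩ := H403.exists_aniso (F := F)
  have hmb := mb_succ hm
  have hpow : 2 ^ m = 2 * 2 ^ (m - 1) := by
    rw [← pow_succ']
    congr 1
    omega
  have h1 : 1 ≤ 2 ^ (m - 1) := Nat.one_le_two_pow
  have h := (H403.elt_unip (F := F) (b := m + 1) (by omega) (Or.inr rfl)).prod
    (H403.elt_one (F := F) (2 ^ (m - 1) - 1))
  rw [mul_one, Nat.lcm_one_right, hmb, show 2 ^ (m - 1) + 1 + (2 ^ (m - 1) - 1) = (2 ^ m - 1) + 1 by omega] at h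
  have h3 := mem_symplectic_of_isometryGroup hμ (h.mem_isometryGroup hμ)
  rw [show 2 ^ m - 1 + 1 = 2 ^ m by omega] at h3
  obtain ⟨M, hM⟩ := h3
  obtain ⟨g, hg⟩ := (mem_range_PSp (F := F) (n := 2 ^ m) (by omega) (2 ^ (m + 1))).2 ⟨M, hM⟩
  exact ⟨g, hg⟩

theorem two_oplus {m : ℕ} (hm : 4 ≤ m) :
    ∃ g : POmega F (quadFormPlus (2 ^ m + 1) F), orderOf g = 2 ^ (m + 1) := by
  have hmb := mb_succ (m := m) (by omega)
  have hpow : 2 ^ m = 2 * 2 ^ (m - 1) := by
    rw [← pow_succ']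
    congr 1
    omega
  have h1 : 8 ≤ 2 ^ (m - 1) := by
    calc 8 = 2 ^ 3 := rfl
      _ ≤ 2 ^ (m - 1) := Nat.pow_le_pow_right (by norm_num) (by omega)
  obtain ⟨d, d', Q, g, v, hQ, hs, hg, ho, hv, hgv⟩ := exists_sum
    (H403.elt_unip (F := F) (b := m + 1) (by omega) (Or.inl rfl)) (s := 2 ^ (m - 1)) (by omega) (H403.elt_one _)
  rw [hmb, show 2 ^ (m - 1) + 1 + 2 ^ (m - 1) = 2 ^ m + 1 by omega, mul_one] at hs
  obtain ⟨e, he⟩ := isPlus_of_hasSign hQ hs
  rw [← coe_plusForm]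
  refine exists_of_fix' (plusForm (2 ^ m + 1) F) (nondeg_plusForm _ F) ?_ (⇑Q) e he g hg (by omega) ho v hv hgv
  rw [Fintype.card_sum, Fintype.card_fin]
  omega

theorem two_ominus {m : ℕ} (hm : 4 ≤ m) {a b : F}
    (hab : ∀ z₁ z₂ : F, z₁ ^ 2 + a * z₁ * z₂ + b * z₂ ^ 2 = 0 → z₁ = 0 ∧ z₂ = 0) :
    ∃ g : POmega F (quadFormMinus (2 ^ m - 1) F a b), orderOf g = 2 ^ (m + 1) := by
  have hmb := mb_succ (m := m) (by omega)
  have hpow : 2 ^ m = 2 * 2 ^ (m - 1) := by
    rw [← pow_succ']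
    congr 1
    omega
  have h1 : 8 ≤ 2 ^ (m - 1) := by
    calc 8 = 2 ^ 3 := rfl
      _ ≤ 2 ^ (m - 1) := Nat.pow_le_pow_right (by norm_num) (by omega)
  obtain ⟨d, d', Q, g, v, hQ, hs, hg, ho, hv, hgv⟩ := exists_sum
    (H403.elt_unip (F := F) (b := m + 1) (by omega) (Or.inl rfl)) (s := 2 ^ (m - 1) - 1) (by omega)
    (elt_minus_one (by omega))
  rw [hmb, show 2 ^ (m - 1) + 1 + (2 ^ (m - 1) - 1) = 2 ^ m by omega, one_mul] at hs
  obtain ⟨m', hm', hmin⟩ := isMinus_of_hasSign hQ hs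
  obtain rfl : 2 ^ m - 1 = m' := by omega
  obtain ⟨e, he⟩ := hmin.exists_equiv hab
  rw [← coe_minusForm]
  refine exists_of_fix' (minusForm (2 ^ m - 1) F a b) (nondeg_minusForm _ F a b hab) ?_ (⇑Q) e he g hg (by omega) ho v
    hv hgv
  simp only [Fintype.card_sum, Fintype.card_fin]
  omega

end

end Cfsg.Agent.H414.T29
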