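import Cfsg.Agent.H414.T29.Aut

/-!
# Groups between `Inn` and `Aut` of `PSL_n(q)`: the cases (helper414, for S3629)
-/

set_option autoImplicit false
set_option linter.unusedSectionVars false

namespace Cfsg.Agent.H414.T29

open Cfsg.Agent.H403 NumTop Matrix
open Cfsg.Agent.H199.PslAut
open Cfsg.Agent.ClassicalGeometry.AutPSL.Root
open Cfsg.Agent.ClassicalGeometry.AutPSL.Auto

section

variable {F : Type*} [Field F] [Fintype F] {k m : ℕ}

theorem odd_pow_sub_one {k : ℕ} (hk : 1 ≤ k) (j : ℕ) (hj : 1 ≤ j) : ¬ 2 ∣ (2 ^ k) ^ j - 1 := by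
  rw [← pow_mul]
  have h1 : 2 ∣ 2 ^ (k * j) := dvd_pow_self 2 (by positivity)
  have h2 : 1 ≤ 2 ^ (k * j) := Nat.one_le_two_pow
  omega

/-- primes not joined to 2 -/
theorem no_two (hF : Fintype.card F = 2 ^ k) (hm : 2 ≤ m) {w : ℕ} (hw : w.Prime)
    (ho : orderOf ((2 ^ k : ℕ) : ZMod w) = 2 ^ m ∨ orderOf ((2 ^ k : ℕ) : ZMod w) = 2 ^ m - 1) :
    ¬ ∃ g : PL m F, orderOf g = 2 * w := by
  rintro ⟨g, hg⟩
  have hk := one_lt hF
  have hn4 : 4 ≤ 2 ^ m := by
    calc 4 = 2 ^ 2 := rfl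
      _ ≤ 2 ^ m := Nat.pow_le_pow_right (by norm_num) hm
  rcases ho with ho | ho
  · have h1 := top hF hm g hw ho (by rw [hg]; exact dvd_mul_left _ _)
    rw [hg] at h1
    refine odd_pow_sub_one hk (2 ^ m) (by omega) ((dvd_mul_right 2 w).trans (h1.trans (Nat.div_dvd_of_dvd ?_)))
    have := Nat.sub_dvd_pow_sub_pow (2 ^ k) 1 (2 ^ m)
    rwa [one_pow] at this
  · have h1 := far hF hm g hw ho (by rw [hg]; exact dvd_mul_left _ _)
    rw [hg] at h1
    exact odd_pow_sub_one hk (2 ^ m - 1) (by omega) ((dvd_mul_right 2 w).trans h1)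

/-- a matrix of prime order not dividing `q - 1` has determinant one -/
theorem det_one_of_order (hF : Fintype.card F = 2 ^ k) {ι : Type*} [Fintype ι] [DecidableEq ι] {M : Matrix ι ι F}
    {w : ℕ} (hw : w.Prime) (hwq : ¬ w ∣ 2 ^ k - 1) (hM : M ^ w = 1) : M.det = 1 := by
  have h1 : M.det ^ w = 1 := by rw [← Matrix.det_pow, hM, Matrix.det_one]
  have h0 : M.det ≠ 0 := by
    intro h
    rw [h, zero_pow hw.ne_zero] at h1
    exact zero_ne_one h1
  have h2 : M.det ^ (2 ^ k - 1) = 1 := by rw [← hF]; exact FiniteField.pow_card_sub_one_eq_one _ h0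
  have h4 := pow_gcd_eq_one.2 ⟨h1, h2⟩
  rwa [(Nat.Prime.coprime_iff_not_dvd hw).2 hwq, pow_one] at h4

theorem Pp.not_dvd {w i : ℕ} (hw : Pp w i) {j : ℕ} (hj : 1 ≤ j) (hji : j < i) : ¬ w ∣ 2 ^ j - 1 := by
  rw [hw.dvd_iff]
  intro h
  have := Nat.le_of_dvd (by omega) h
  omega

theorem orderOf_sl {ι : Type*} [Fintype ι] [DecidableEq ι] (A : Matrix.SpecialLinearGroup ι F) :
    orderOf (A : Matrix ι ι F) = orderOf A := by
  rw [orderOf_eq_orderOf_iff]
  intro j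
  rw [← Matrix.SpecialLinearGroup.coe_pow]
  constructor
  · intro h
    exact Subtype.ext h
  · intro h
    rw [h]
    rfl

variable {Y : Subgroup (MulAut (PL m F))} (hinn : ∀ a, MulAut.conj a ∈ Y)
  (hω : ∀ y ∈ Y, ∃ g : PL m F, orderOf g = orderOf y)

include hinn hω in
theorem exists_mul (hF : Fintype.card F = 2 ^ k) {α : MulAut (PL m F)} (hα : α ∈ Y) {s : ℕ} (ho : orderOf α = s)
    {h : PL m F} (hfix : α h = h) (hc : Nat.Coprime s (orderOf h)) : ∃ g : PL m F, orderOf g = s * orderOf h := by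
  obtain ⟨g, hg⟩ := hω _ (Y.mul_mem hα (hinn h))
  refine ⟨g, ?_⟩
  rw [hg, orderOf_mul_conj hF hfix (by rw [ho]; exact hc), ho]

include hinn hω in
/-- **The graph automorphism.** -/
theorem iot_notMem (hF : Fintype.card F = 2 ^ k) (hm : 4 ≤ m) : iot (2 ^ m) F ∉ Y := by
  intro hY
  have hk := one_lt hF
  have hc2 := charTwo hF
  have hn16 : 16 ≤ 2 ^ m := by
    calc 16 = 2 ^ 4 := rfl
      _ ≤ 2 ^ m := Nat.pow_le_pow_right (by norm_num) hm
  obtain ⟨w, hw⟩ := exists_pp (i := 2 ^ m * k) (by nlinarith)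
  have hwq : ¬ w ∣ 2 ^ k - 1 := hw.not_dvd hk (by nlinarith)
  have hn : 2 ^ m = 2 ^ (m - 1) + 2 ^ (m - 1) := by rw [← two_mul, ← pow_succ', Nat.sub_add_cancel (by omega)]
  -- symplectic element
  have hwd : w ∣ Nat.card F ^ 2 ^ (m - 1) + 1 := by
    rw [Nat.card_eq_fintype_card, hF, ← pow_mul]
    have h1 : w ∣ 2 ^ (2 ^ m * k) - 1 := (hw.dvd_iff _).2 dvd_rfl
    have h2 : 2 ^ (2 ^ m * k) - 1 = (2 ^ (k * 2 ^ (m - 1)) + 1) * (2 ^ (k * 2 ^ (m - 1)) - 1) := by
      have := Nat.sq_sub_sq (2 ^ (k * 2 ^ (m - 1))) 1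
      rw [one_pow, ← pow_mul] at this
      rw [← this]
      congr 2
      rw [hn]; ring
    rw [h2] at h1
    refine (hw.prime.dvd_mul.1 h1).resolve_right (hw.not_dvd (Nat.mul_pos hk (by positivity)) ?_)
    rw [hn, mul_comm]
    have : 0 < 2 ^ (m - 1) * k := by positivity
    nlinarith
  obtain ⟨A, hA⟩ := H376.SpEmb.exists_of_dvd (by positivity) hwd
    (H376.SpEmb.exists_plus F (2 ^ (m - 1)) (by positivity))
  let e : Fin (2 ^ (m - 1)) ⊕ Fin (2 ^ (m - 1)) ≃ Fin (2 ^ m) := finSumFinEquiv.trans (finCongr hn.symm)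
  let re : Matrix (Fin (2 ^ (m - 1)) ⊕ Fin (2 ^ (m - 1))) (Fin (2 ^ (m - 1)) ⊕ Fin (2 ^ (m - 1))) F ≃ₐ[F]
      Matrix (Fin (2 ^ m)) (Fin (2 ^ m)) F := reindexAlgEquiv F F e
  have hre : ∀ X, re X = X.submatrix e.symm e.symm := fun X => rfl
  have hret : ∀ X, (re X)ᵀ = re Xᵀ := fun X => rfl
  let J := Matrix.J (Fin (2 ^ (m - 1))) F
  have hJt : Jᵀ = J := by
    rw [Matrix.J_transpose]
    ext i j
    exact CharTwo.neg_eq _
  have hJJ : J * J = 1 := by
    rw [Matrix.J_squared]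
    ext i j
    exact CharTwo.neg_eq _
  let g : GL (Fin (2 ^ m)) F := ⟨re J, re J, by rw [← map_mul, hJJ, map_one], by rw [← map_mul, hJJ, map_one]⟩
  have hit : itGL g = g := by
    apply Units.ext
    rw [coe_itGL]
    change (re J)ᵀ = re J
    rw [hret, hJt]
  have hgg : g * g = 1 := by
    apply Units.ext
    change re J * re J = 1
    rw [← map_mul, hJJ, map_one]
  set α := Psi (2 ^ m) F g * iot (2 ^ m) F with hα
  have hα2 : α * α = 1 := by
    rw [hα, mul_assoc, ← mul_assoc (iot (2 ^ m) F), iot_mul_Psi, hit, mul_assoc (Psi (2 ^ m) F g) (iot (2 ^ m) F),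
      iot_mul_iot, mul_one, ← map_mul, hgg, map_one]
  have hα1 : α ≠ 1 := by
    intro h
    refine not_graph' (n := 2 ^ m) (by omega) (g := g) (σ := 1) (τ := 1) ?_
    rw [map_one, mul_one]
    exact h
  have hαo : orderOf α = 2 := orderOf_eq_prime (by rw [sq, hα2]) hα1
  have hαY : α ∈ Y := by
    obtain ⟨a, ha⟩ := psi_inner hF g
    rw [hα, ha]
    exact Y.mul_mem (hinn a) hY
  -- the fixed element
  have hAo : orderOf (A : Matrix (Fin (2 ^ (m - 1)) ⊕ Fin (2 ^ (m - 1))) (Fin (2 ^ (m - 1)) ⊕ Fin (2 ^ (m - 1))) F) = w := by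
    rw [← hA, orderOf_eq_orderOf_iff]
    intro j
    constructor
    · intro h
      exact Subtype.ext (by rw [SubmonoidClass.coe_pow]; exact h)
    · intro h
      rw [← SubmonoidClass.coe_pow, h]
      rfl
  have hMo : orderOf (re A) = w := by
    rw [← hAo]
    exact orderOf_injective re.toRingEquiv.toMonoidHom re.injective _
  have hdet : (re A).det = 1 := det_one_of_order hF hw.prime hwq (by rw [← hMo]; exact pow_orderOf_eq_one _)
  let B : Matrix.SpecialLinearGroup (Fin (2 ^ m)) F := ⟨re A, hdet⟩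
  have hBo : orderOf (pr B) = w := by
    rw [orderOf_injective _ (pr_injective hF), ← orderOf_sl]
    exact hMo
  have hfix : α (pr B) = pr B := by
    rw [hα, MulAut.mul_apply, iot_pr, Psi_pr]
    congr 1
    apply Subtype.ext
    rw [coe_cj, coe_itr]
    have hsym : re A * re J * (re A)ᵀ = re J := by
      rw [hret, ← map_mul, ← map_mul]
      congr 1
      exact SymplecticGroup.mem_iff.1 A.2
    have hinv : re A * ((B⁻¹ : Matrix.SpecialLinearGroup (Fin (2 ^ m)) F) : Matrix (Fin (2 ^ m)) (Fin (2 ^ m)) F) = 1 := by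
      change (B : Matrix (Fin (2 ^ m)) (Fin (2 ^ m)) F) * _ = 1
      rw [← Matrix.SpecialLinearGroup.coe_mul, mul_inv_cancel, Matrix.SpecialLinearGroup.coe_one]
    have hinvt : (re A)ᵀ * ((B⁻¹ : Matrix.SpecialLinearGroup (Fin (2 ^ m)) F) : Matrix (Fin (2 ^ m)) (Fin (2 ^ m)) F)ᵀ = 1 := by
      have h1 : ((B⁻¹ : Matrix.SpecialLinearGroup (Fin (2 ^ m)) F) : Matrix (Fin (2 ^ m)) (Fin (2 ^ m)) F) * re A = 1 := by
        change _ * (B : Matrix (Fin (2 ^ m)) (Fin (2 ^ m)) F) = 1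
        rw [← Matrix.SpecialLinearGroup.coe_mul, inv_mul_cancel, Matrix.SpecialLinearGroup.coe_one]
      rw [← transpose_mul, h1, transpose_one]
    change re J * ((B⁻¹ : Matrix.SpecialLinearGroup (Fin (2 ^ m)) F) : Matrix (Fin (2 ^ m)) (Fin (2 ^ m)) F)ᵀ * re J = re A
    calc re J * ((B⁻¹ : Matrix.SpecialLinearGroup (Fin (2 ^ m)) F) : Matrix (Fin (2 ^ m)) (Fin (2 ^ m)) F)ᵀ * re J
        = (re A * re J * (re A)ᵀ) * ((B⁻¹ : Matrix.SpecialLinearGroup (Fin (2 ^ m)) F) : Matrix (Fin (2 ^ m)) (Fin (2 ^ m)) F)ᵀ * re J := by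
          rw [hsym]
      _ = re A * (re J * re J) := by
          rw [mul_assoc (re A * re J), hinvt, mul_one, mul_assoc]
      _ = re A := by rw [← map_mul, hJJ, map_one, mul_one]
  obtain ⟨x, hx⟩ := exists_mul hinn hω hF hαY hαo hfix (by
    rw [hBo]
    exact ((Nat.coprime_primes Nat.prime_two hw.prime).2 (Ne.symm (hw.ne_two (by nlinarith)))))
  exact no_two hF (by omega) hw.prime (Or.inl (hw.ord_mul (by omega))) ⟨x, by rw [hx, hBo]⟩

end

end Cfsg.Agent.H414.T29
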