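import Cfsg.Agent.H414.T29.LCoc
import Cfsg.Agent.H414.T29.Frob
import Cfsg.Agent.H371.FrobCover
import Cfsg.Agent.H376.WordEmb

/-!
# Covers of `PSL_n(q)`, `n = 2 ^ m`, `q` even, have elements of new orders (helper414, for S3629)
-/

set_option autoImplicit false
set_option linter.unusedSectionVars false

namespace Cfsg.Agent.H414.T29

open Cfsg.Agent.H403 NumTop Subgroup

section

variable {F : Type*} [Field F] [Fintype F] {k m : ℕ}

/-- `SL → PSL` is injective -/
theorem mk_injective (hF : Fintype.card F = 2 ^ k) :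
    Function.Injective (QuotientGroup.mk' (Subgroup.center (Matrix.SpecialLinearGroup (Fin (2 ^ m)) F))) := by
  have := charTwo hF
  rw [← MonoidHom.ker_eq_bot_iff, QuotientGroup.ker_mk', eq_bot_iff]
  intro A hA
  rw [Matrix.SpecialLinearGroup.mem_center_iff] at hA
  obtain ⟨r, hr, hA⟩ := hA
  rw [Fintype.card_fin] at hr
  have h1 : r = 1 := by
    have := (pow_eq_one_iff m 1 r).1 (by rw [mul_one]; exact hr)
    rwa [pow_one] at this
  rw [mem_bot]
  apply Subtype.ext
  rw [← hA, h1, map_one]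
  rfl

theorem frobOne (hF : Fintype.card F = 2 ^ k) (hm : 1 ≤ m) {p : ℕ} (hp : p.Prime) (hp2 : p ≠ 2) :
    FrobIn (PL m F) p ((2 ^ k) ^ (2 ^ m - 1) - 1) := by
  have := charTwo hF
  have hn2 : 2 ≤ 2 ^ m := by
    calc 2 = 2 ^ 1 := rfl
      _ ≤ 2 ^ m := Nat.pow_le_pow_right (by norm_num) hm
  have h1 := frob_one (N := 2 ^ m - 1) (m := m) hF (by omega) (by omega) hp hp2
  have e : Fin (2 ^ m - 1) ⊕ Unit ≃ Fin (2 ^ m) := Fintype.equivOfCardEq (by
    rw [Fintype.card_sum, Fintype.card_fin, Fintype.card_unit, Fintype.card_fin]; omega)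
  exact (h1.map (H376.WordEmb.reidx e) (H376.WordEmb.reidx_injective e)).map _ (mk_injective hF)

theorem frobTwo (hF : Fintype.card F = 2 ^ k) (hm : 4 ≤ m) : FrobIn (PL m F) 2 (2 ^ m) := by
  have := charTwo hF
  have hk := one_lt hF
  have hn2 : 16 ≤ 2 ^ m := by
    calc 16 = 2 ^ 4 := rfl
      _ ≤ 2 ^ m := Nat.pow_le_pow_right (by norm_num) hm
  obtain ⟨w, hw⟩ := exists_pp (i := 2 ^ m * k) (by nlinarith)
  exact (frob_two hF hw.prime (hw.ord_mul (by omega)) (by omega)).map _ (mk_injective hF)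

/-- elements of order `p w` -/
theorem exists_mul_of_central {X : Type*} [Group X] [Finite X] {v : X} (hv : v ∈ center X) {p w : ℕ}
    (hp : orderOf v = p) (hw : w.Prime) (hpw : Nat.Coprime p w) (hd : w ∣ Nat.card X) :
    ∃ x : X, orderOf x = p * w := by
  have := Fact.mk hw
  obtain ⟨y, hy⟩ := exists_prime_orderOf_dvd_card' w hd
  have hc : Commute v y := (mem_center_iff.1 hv y).symm
  refine ⟨v * y, ?_⟩
  rw [hc.orderOf_mul_eq_mul_orderOf_of_coprime (by rw [hp, hy]; exact hpw), hp, hy]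

/-- `p ∣ (q ^ n - 1) / (q - 1)` and `p ∣ q ^ j - 1`, `j` odd, is impossible -/
theorem arith_contra {k m p j : ℕ} (hk : 1 ≤ k) (hp : p.Prime) (h1 : p ∣ ((2 ^ k) ^ (2 ^ m) - 1) / (2 ^ k - 1))
    (h2 : p ∣ (2 ^ k) ^ j - 1) (hj : Odd j) : False := by
  have hq : 2 ≤ 2 ^ k := Nat.one_lt_two_pow (by omega)
  have hf := Fact.mk hp
  have h3 : p ∣ (2 ^ k) ^ (2 ^ m) - 1 := h1.trans (Nat.div_dvd_of_dvd (by
    have := Nat.sub_dvd_pow_sub_pow (2 ^ k) 1 (2 ^ m)
    rwa [one_pow] at this))
  have h4 : ∀ i, p ∣ (2 ^ k) ^ i - 1 → orderOf ((2 ^ k : ℕ) : ZMod p) ∣ i := by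
    intro i hi
    rw [orderOf_dvd_iff_pow_eq_one]
    rw [← ZMod.natCast_eq_zero_iff, Nat.cast_sub (Nat.one_le_pow _ _ (by omega)), Nat.cast_pow, sub_eq_zero] at hi
    rw [hi, Nat.cast_one]
  have h5 : orderOf ((2 ^ k : ℕ) : ZMod p) ∣ Nat.gcd (2 ^ m) j := Nat.dvd_gcd (h4 _ h3) (h4 _ h2)
  have h6 : Nat.gcd (2 ^ m) j = 1 := Nat.Coprime.pow_left _ (Nat.coprime_two_left.2 hj)
  rw [h6, Nat.dvd_one, orderOf_eq_one_iff] at h5
  rw [← Nat.geomSum_eq hq, ← ZMod.natCast_eq_zero_iff, Nat.cast_sum] at h1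
  simp only [Nat.cast_pow] at h1 h5
  simp only [h5, one_pow, Finset.sum_const, Finset.card_range, nsmul_eq_mul, mul_one] at h1
  rw [ZMod.natCast_eq_zero_iff] at h1
  have h7 := (Nat.prime_dvd_prime_iff_eq hp Nat.prime_two).1 (hp.dvd_of_dvd_pow h1)
  subst h7
  have h8 : ((2 : ℕ) : ZMod 2) = 0 := ZMod.natCast_self 2
  rw [h8, zero_pow (by omega)] at h5
  exact zero_ne_one h5

/-- **The kernel.** -/
theorem cover (hF : Fintype.card F = 2 ^ k) (hm : 4 ≤ m) {X : Type*} [Group X] [Finite X] (V : Subgroup X)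
    [V.Normal] [IsSimpleGroup (X ⧸ V)] {p : ℕ} (hp : p.Prime) (hVc : IsMulCommutative V) (hVp : ∀ v ∈ V, v ^ p = 1)
    (hV : V ≠ ⊥) (e : X ⧸ V ≃* PL m F) (hω : ∀ x : X, ∃ y : PL m F, orderOf y = orderOf x) : False := by
  have hk := one_lt hF
  have hn2 : 16 ≤ 2 ^ m := by
    calc 16 = 2 ^ 4 := rfl
      _ ≤ 2 ^ m := Nat.pow_le_pow_right (by norm_num) hm
  have hq : 2 ≤ 2 ^ k := Nat.one_lt_two_pow (by omega)
  obtain ⟨w, hw⟩ := exists_pp (i := (2 ^ m - 1) * k) (by
    have : 15 * 1 ≤ (2 ^ m - 1) * k := Nat.mul_le_mul (by omega) hk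
    omega)
  obtain ⟨r, hr⟩ := exists_pp (i := 2 ^ m * k) (by nlinarith)
  have hwo := hw.ord_mul (k := k) (by omega)
  have hro := hr.ord_mul (k := k) (by omega)
  obtain ⟨v, hv, hv1⟩ : ∃ v ∈ V, v ≠ 1 := by
    by_contra hcon
    push Not at hcon
    exact hV ((eq_bot_iff_forall V).2 hcon)
  have hpf := Fact.mk hp
  have hvo : orderOf v = p := orderOf_eq_prime (hVp v hv) hv1
  by_cases hcen : V ≤ center X
  · -- central case
    have hcard : ∀ s, s ∣ Nat.card (PL m F) → s ∣ Nat.card X := fun s hs => by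
      rw [← Nat.card_congr e.toEquiv] at hs
      exact hs.trans (card_quotient_dvd_card V)
    have hwd : w ∣ Nat.card X := by
      obtain ⟨g, hg⟩ := exists_of_pp (m := m) hF (by omega) (by omega) (by omega) hw
      exact hcard _ (by rw [← hg]; exact _root_.orderOf_dvd_natCard g)
    have hrd : r ∣ Nat.card X := by
      obtain ⟨g, hg⟩ := exists_of_pp (m := m) hF (by omega) (by omega) le_rfl hr
      exact hcard _ (by rw [← hg]; exact _root_.orderOf_dvd_natCard g)
    have hwr : w ≠ r := by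
      rintro rfl
      have := hw.unique hr
      have := Nat.eq_of_mul_eq_mul_right (by omega) this
      omega
    -- adjacency with `w`
    have h1 : p ≠ w → p ∣ (2 ^ k) ^ (2 ^ m - 1) - 1 := fun h => by
      obtain ⟨x, hx⟩ := exists_mul_of_central (hcen hv) hvo hw.prime ((Nat.coprime_primes hp hw.prime).2 h) hwd
      obtain ⟨y, hy⟩ := hω x
      have h3 := far hF (by omega) y hw.prime hwo (by rw [hy, hx]; exact dvd_mul_left _ _)
      rw [hy, hx] at h3
      exact (dvd_mul_right _ _).trans h3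
    have h2 : p ≠ r → p ∣ ((2 ^ k) ^ (2 ^ m) - 1) / (2 ^ k - 1) := fun h => by
      obtain ⟨x, hx⟩ := exists_mul_of_central (hcen hv) hvo hr.prime ((Nat.coprime_primes hp hr.prime).2 h) hrd
      obtain ⟨y, hy⟩ := hω x
      have h3 := top hF (by omega) y hr.prime hro (by rw [hy, hx]; exact dvd_mul_left _ _)
      rw [hy, hx] at h3
      exact (dvd_mul_right _ _).trans h3
    have hnk : ¬ (2 ^ m - 1) * k ∣ k * 2 ^ m := by
      intro h
      rw [mul_comm k] at h
      have h3 : 2 ^ m - 1 ∣ 2 ^ m := Nat.dvd_of_mul_dvd_mul_right (by omega) h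
      have h4 := (Nat.dvd_sub h3 (dvd_refl (2 ^ m - 1)))
      have h5 : 2 ^ m - (2 ^ m - 1) = 1 := by omega
      rw [h5] at h4
      have := Nat.le_of_dvd one_pos h4
      omega
    rcases eq_or_ne p w with rfl | hpw
    · have h3 := (h2 hwr).trans (Nat.div_dvd_of_dvd (by
        have := Nat.sub_dvd_pow_sub_pow (2 ^ k) 1 (2 ^ m)
        rwa [one_pow] at this))
      rw [← pow_mul, hw.dvd_iff] at h3
      exact hnk h3
    rcases eq_or_ne p r with rfl | hpr
    · have h3 := h1 hpw
      rw [← pow_mul, hr.dvd_iff, mul_comm k] at h3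
      have h4 := Nat.le_of_dvd (by omega) (Nat.dvd_of_mul_dvd_mul_right (by omega) h3)
      omega
    exact arith_contra (one_lt hF) hp (h2 hpr) (h1 hpw) (by
      obtain ⟨c, rfl⟩ : ∃ c, m = c + 1 := ⟨m - 1, by omega⟩
      exact ⟨2 ^ c - 1, by rw [pow_succ]; omega⟩)
  · -- faithful case
    have hker : ∀ g : X, g ∉ V → ∃ v ∈ V, g * v ≠ v * g := by
      intro g hg
      by_contra hcon
      push Not at hcon
      -- the centralizer of `V`
      have hVC : V ≤ centralizer (V : Set X) := by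
        intro a ha
        rw [mem_centralizer_iff]
        intro b hb
        exact congrArg Subtype.val (hVc.is_comm.comm ⟨b, hb⟩ ⟨a, ha⟩)
      have hgC : g ∈ centralizer (V : Set X) := by
        rw [mem_centralizer_iff]
        intro b hb
        exact (hcon b hb).symm
      have hmap := IsSimpleGroup.eq_bot_or_eq_top_of_normal
        ((centralizer (V : Set X)).map (QuotientGroup.mk' V)) inferInstance
      rcases hmap with h | h
      · apply hg
        have : QuotientGroup.mk' V g ∈ (centralizer (V : Set X)).map (QuotientGroup.mk' V) := mem_map_of_mem _ hgC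
        rw [h, mem_bot] at this
        exact (QuotientGroup.eq_one_iff g).1 this
      · apply hcen
        have h3 : centralizer (V : Set X) = ⊤ := by
          rw [eq_top_iff]
          intro x _
          have : QuotientGroup.mk' V x ∈ (centralizer (V : Set X)).map (QuotientGroup.mk' V) := by rw [h]; trivial
          obtain ⟨y, hy, hxy⟩ := this
          have h4 : y⁻¹ * x ∈ V := QuotientGroup.eq.1 hxy
          have h5 := (centralizer (V : Set X)).mul_mem hy (hVC h4)
          rwa [mul_inv_cancel_left] at h5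
        intro a ha
        rw [mem_center_iff]
        intro x
        have : x ∈ centralizer (V : Set X) := by rw [h3]; trivial
        exact (mem_centralizer_iff.1 this a ha).symm
    -- an element of order `c p`
    have key : ∀ c : ℕ, FrobIn (PL m F) p c → ∃ y : X, orderOf y = c * p := by
      intro c hc
      obtain ⟨U, c', h1, h2, h3, h4, h5⟩ := hc.map e.symm.toMonoidHom e.symm.injective
      rw [← h1]
      refine H371.Frob.exists_orderOf V hVc hp hVp U h4 (by rw [h1]; exact h5) h2 ?_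
      obtain ⟨u, hu, hu1⟩ : ∃ u ∈ U, u ≠ 1 := by
        by_contra hcon
        push Not at hcon
        exact h3 ((eq_bot_iff_forall U).2 hcon)
      obtain ⟨g, rfl⟩ := QuotientGroup.mk_surjective u
      exact ⟨g, hu, hker g fun h => hu1 ((QuotientGroup.eq_one_iff g).2 h)⟩
    rcases eq_or_ne p 2 with rfl | hp2
    · obtain ⟨y, hy⟩ := key _ (frobTwo hF hm)
      obtain ⟨z, hz⟩ := hω y
      apply two_part hF z
      rw [hz, hy, pow_succ]
    · obtain ⟨y, hy⟩ := key _ (frobOne hF (by omega) hp hp2)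
      obtain ⟨z, hz⟩ := hω y
      have hpos : 0 < (2 ^ k) ^ (2 ^ m - 1) - 1 := by
        have : 1 < (2 ^ k) ^ (2 ^ m - 1) := Nat.one_lt_pow (by omega) (by omega)
        omega
      have h1 := far hF (by omega) z hw.prime hwo (by
        rw [hz, hy]
        refine Dvd.dvd.mul_right ?_ p
        rw [← pow_mul, hw.dvd_iff, mul_comm])
      rw [hz, hy] at h1
      have h2 := Nat.le_of_dvd hpos h1
      have := hp.two_le
      nlinarith

end

end Cfsg.Agent.H414.T29
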