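import Cfsg.Agent.H414.T29.Aut2

/-!
# Groups between `Inn` and `Aut` of `PSL_n(q)`: field and graph-field automorphisms (helper414, for S3629)
-/

set_option autoImplicit false
set_option linter.unusedSectionVars false

namespace Cfsg.Agent.H414.T29

open Cfsg.Agent.H403 NumTop Matrix
open Cfsg.Agent.H199.PslAut
open Cfsg.Agent.ClassicalGeometry.AutPSL.Root
open Cfsg.Agent.ClassicalGeometry.AutPSL.Auto

section

variable {F : Type*} [Field F] [Fintype F] {k m : ℕ} {Y : Subgroup (MulAut (PL m F))}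
  (hinn : ∀ a, MulAut.conj a ∈ Y) (hω : ∀ y ∈ Y, ∃ g : PL m F, orderOf g = orderOf y)

theorem sixteen_le (hm : 4 ≤ m) : 16 ≤ 2 ^ m := by
  calc 16 = 2 ^ 4 := rfl
    _ ≤ 2 ^ m := Nat.pow_le_pow_right (by norm_num) hm

theorem orderOf_phi (hm : 4 ≤ m) (σ : F ≃+* F) : orderOf (phi (2 ^ m) F σ) = orderOf σ :=
  orderOf_injective _ (phi_injective (by have := sixteen_le hm; omega)) σ

theorem exists_sl (hF : Fintype.card F = 2 ^ k) (g : PL m F) : ∃ A : Matrix.SpecialLinearGroup (Fin (2 ^ m)) F,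
    orderOf A = orderOf g := by
  obtain ⟨A, rfl⟩ := pr_surjective g
  exact ⟨A, (orderOf_injective _ (pr_injective hF) A).symm⟩

include hinn hω in
/-- **Field automorphisms of order 2** -/
theorem field_two (hF : Fintype.card F = 2 ^ k) (hm : 4 ≤ m) {σ : F ≃+* F} (hσ : orderOf σ = 2)
    (hY : phi (2 ^ m) F σ ∈ Y) : False := by
  have hn16 := sixteen_le hm
  obtain ⟨F₀, _, _, k₀, j, hF₀, hk₀, hk, hj⟩ := exists_fixed_field hF hσ (by norm_num)
  obtain ⟨w, hw⟩ := exists_pp (i := (2 ^ m - 1) * k₀) (by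
    have : 15 * 1 ≤ (2 ^ m - 1) * k₀ := Nat.mul_le_mul (by omega) hk₀
    omega)
  obtain ⟨g, hg⟩ := exists_of_pp (m := m) hF₀ (by omega) (by omega) (by omega) hw
  obtain ⟨A, hA⟩ := exists_sl hF₀ g
  obtain ⟨h, hh, ho⟩ := exists_fixed hF j hj A
  have hho : orderOf h = w := by rw [ho, hA, hg]
  obtain ⟨x, hx⟩ := exists_mul hinn hω hF hY (by rw [orderOf_phi hm, hσ]) hh (by
    rw [hho]
    exact (Nat.coprime_primes Nat.prime_two hw.prime).2 (Ne.symm (hw.ne_two (by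
      exact Nat.mul_pos (by omega) hk₀))))
  refine no_two hF (by omega) hw.prime (Or.inr ?_) ⟨x, by rw [hx, hho]⟩
  rw [hw.ord_pow (by omega), hk, mul_comm k₀ 2, Nat.gcd_mul_right]
  have h1 : Nat.gcd (2 ^ m - 1) 2 = 1 := by
    apply Nat.Coprime.symm
    rw [Nat.coprime_two_left]
    obtain ⟨c, rfl⟩ : ∃ c, m = c + 1 := ⟨m - 1, by omega⟩
    exact ⟨2 ^ c - 1, by rw [pow_succ]; omega⟩
  rw [h1, one_mul, Nat.mul_div_cancel _ (by omega)]

include hinn hω in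
/-- **Graph-field automorphisms of order 2** -/
theorem graph_field (hF : Fintype.card F = 2 ^ k) (hm : 4 ≤ m) {σ : F ≃+* F} (hσ : orderOf σ = 2)
    (hY : phi (2 ^ m) F σ * iot (2 ^ m) F ∈ Y) : False := by
  have hn16 := sixteen_le hm
  have hc2 := charTwo hF
  have hf2 : Fact (Nat.Prime 2) := ⟨Nat.prime_two⟩
  have hk := one_lt hF
  -- `σ a = a ^ (2 ^ i)`
  obtain ⟨i, hi⟩ := exists_frob (p := 2) σ
  obtain ⟨z, hz⟩ := IsCyclic.exists_ofOrder_eq_natCard (α := Fˣ)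
  rw [Nat.card_units, Nat.card_eq_fintype_card, hF] at hz
  have hσ2 : ∀ a, σ (σ a) = a := by
    intro a
    have h1 : σ ^ 2 = 1 := by rw [← hσ]; exact pow_orderOf_eq_one σ
    have h2 := DFunLike.congr_fun h1 a
    rwa [sq] at h2
  have hdvd : ∀ j, (∀ a : F, a ^ 2 ^ j = a) → k ∣ j := by
    intro j hj
    have h1 : z ^ (2 ^ j - 1) = 1 := by
      apply Units.ext
      have h2 := hj (z : F)
      rw [Units.val_pow_eq_pow_val, Units.val_one]
      exact pow_sub_one_of_fix Nat.one_le_two_pow z.ne_zero h2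
    have h2 := orderOf_dvd_of_pow_eq_one h1
    rw [hz] at h2
    have h3 : Nat.gcd (2 ^ k - 1) (2 ^ j - 1) = 2 ^ (Nat.gcd k j) - 1 := Nat.pow_sub_one_gcd_pow_sub_one 2 k j
    rw [Nat.gcd_eq_left h2] at h3
    have h5 : 1 ≤ 2 ^ k := Nat.one_le_two_pow
    have h6 : 1 ≤ 2 ^ Nat.gcd k j := Nat.one_le_two_pow
    have h7 : 2 ^ k = 2 ^ Nat.gcd k j := by omega
    have h8 : k = Nat.gcd k j := Nat.pow_right_injective le_rfl h7
    rw [h8]
    exact Nat.gcd_dvd_right k j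
  have hfrob : ∀ a : F, a ^ 2 ^ k = a := fun a => by rw [← hF]; exact FiniteField.pow_card a
  have hk2i : k ∣ 2 * i := hdvd _ fun a => by
    have h1 := hσ2 a
    rw [hi, hi, ← pow_mul, ← pow_add, ← two_mul] at h1
    exact h1
  have hnki : ¬ k ∣ i := by
    rintro ⟨c, hc⟩
    have h1 : σ = 1 := by
      apply RingEquiv.ext
      intro a
      rw [hi, hc]
      have h2 : ∀ c : ℕ, a ^ 2 ^ (k * c) = a := by
        intro c
        induction c with
        | zero => simp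
        | succ c ih => rw [Nat.mul_succ, pow_add, pow_mul, ih, hfrob]
      exact h2 c
    rw [h1, orderOf_one] at hσ
    omega
  -- `k = 2 k₀`, `σ a = a ^ (2 ^ k₀)`
  obtain ⟨k₀, hk₀⟩ : 2 ∣ k := by
    by_contra h
    exact hnki ((Nat.Coprime.symm ((Nat.Prime.coprime_iff_not_dvd Nat.prime_two).2 h)).dvd_of_dvd_mul_left hk2i)
  obtain ⟨c, hc⟩ : k₀ ∣ i := by
    rw [hk₀] at hk2i
    exact Nat.dvd_of_mul_dvd_mul_left (by norm_num) hk2i
  have hcodd : Odd c := by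
    rw [← Nat.not_even_iff_odd]
    rintro ⟨d, hd⟩
    exact hnki ⟨d, by rw [hc, hk₀, hd]; ring⟩
  have hσk : ∀ a, σ a = a ^ 2 ^ k₀ := by
    intro a
    obtain ⟨d, hd⟩ := hcodd
    rw [hi, hc, hd, Nat.mul_add, mul_one, pow_add, pow_mul]
    have h2 : ∀ d : ℕ, a ^ 2 ^ (k₀ * (2 * d)) = a := by
      intro d
      induction d with
      | zero => simp
      | succ d ih =>
        rw [show k₀ * (2 * (d + 1)) = k₀ * (2 * d) + k by rw [hk₀]; ring, pow_add, pow_mul, ih, hfrob]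
    rw [h2 d]
  have hk₀1 : 1 ≤ k₀ := by omega
  have hF2 : Fintype.card F = (2 ^ k₀) ^ 2 := by rw [hF, hk₀, ← pow_mul, mul_comm]
  obtain ⟨w, hw⟩ := exists_pp (i := (2 ^ m - 1) * k) (by
    have : 15 * 1 ≤ (2 ^ m - 1) * k := Nat.mul_le_mul (by omega) hk
    omega)
  have hwq : ¬ w ∣ 2 ^ k - 1 := hw.not_dvd hk (by
    have : 15 * k ≤ (2 ^ m - 1) * k := Nat.mul_le_mul_right k (by omega)
    omega)
  have hodd : Odd (2 ^ m - 1) := by
    obtain ⟨c, rfl⟩ : ∃ c, m = c + 1 := ⟨m - 1, by omega⟩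
    exact ⟨2 ^ c - 1, by rw [pow_succ]; omega⟩
  have hwd : w ∣ (2 ^ k₀) ^ (2 ^ m - 1) + 1 := by
    have h1 : w ∣ 2 ^ ((2 ^ m - 1) * k) - 1 := (hw.dvd_iff _).2 dvd_rfl
    have h2 : 2 ^ ((2 ^ m - 1) * k) - 1 = ((2 ^ k₀) ^ (2 ^ m - 1) + 1) * ((2 ^ k₀) ^ (2 ^ m - 1) - 1) := by
      have := Nat.sq_sub_sq ((2 ^ k₀) ^ (2 ^ m - 1)) 1
      rw [one_pow, ← pow_mul, ← pow_mul] at this
      rw [← this]
      congr 2
      rw [hk₀]; ring
    rw [h2] at h1
    refine (hw.prime.dvd_mul.1 h1).resolve_right ?_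
    rw [← pow_mul]
    refine hw.not_dvd (Nat.mul_pos hk₀1 (by omega)) ?_
    rw [hk₀, mul_comm]
    have : 0 < (2 ^ m - 1) * k₀ := Nat.mul_pos (by omega) hk₀1
    calc (2 ^ m - 1) * k₀ < 2 * ((2 ^ m - 1) * k₀) := by omega
      _ = (2 ^ m - 1) * (2 * k₀) := by ring
  obtain ⟨M, hM, hMo⟩ := (hElt_odd hF2 hodd hwd).le (n := 2 ^ m) (by positivity) (by omega)
  have hMσ : M.map (fun x => x ^ 2 ^ k₀) = M.map σ := by
    ext a b
    rw [Matrix.map_apply, Matrix.map_apply, hσk]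
  rw [hMσ] at hM
  have hdet : M.det = 1 := det_one_of_order hF hw.prime hwq (by rw [← hMo]; exact pow_orderOf_eq_one _)
  let B : Matrix.SpecialLinearGroup (Fin (2 ^ m)) F := ⟨M, hdet⟩
  have hBo : orderOf (pr B) = w := by
    rw [orderOf_injective _ (pr_injective hF), ← orderOf_sl]
    exact hMo
  have hBit : (itr B : Matrix (Fin (2 ^ m)) (Fin (2 ^ m)) F) = M.map σ := by
    rw [coe_itr]
    have h1 : ((B⁻¹ : Matrix.SpecialLinearGroup (Fin (2 ^ m)) F) : Matrix (Fin (2 ^ m)) (Fin (2 ^ m)) F) * M = 1 := by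
      change _ * (B : Matrix (Fin (2 ^ m)) (Fin (2 ^ m)) F) = 1
      rw [← Matrix.SpecialLinearGroup.coe_mul, inv_mul_cancel, Matrix.SpecialLinearGroup.coe_one]
    have h2 : ((B⁻¹ : Matrix.SpecialLinearGroup (Fin (2 ^ m)) F) : Matrix (Fin (2 ^ m)) (Fin (2 ^ m)) F)ᵀ * Mᵀ = 1 := by
      have h3 : M * ((B⁻¹ : Matrix.SpecialLinearGroup (Fin (2 ^ m)) F) : Matrix (Fin (2 ^ m)) (Fin (2 ^ m)) F) = 1 := by
        change (B : Matrix (Fin (2 ^ m)) (Fin (2 ^ m)) F) * _ = 1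
        rw [← Matrix.SpecialLinearGroup.coe_mul, mul_inv_cancel, Matrix.SpecialLinearGroup.coe_one]
      rw [← transpose_mul, h3, transpose_one]
    exact left_inv_eq_right_inv h2 hM
  have hfix : (phi (2 ^ m) F σ * iot (2 ^ m) F) (pr B) = pr B := by
    rw [MulAut.mul_apply, iot_pr, phi_pr]
    congr 1
    apply Subtype.ext
    ext a b
    rw [coe_fld_apply, hBit, Matrix.map_apply, hσ2]
  have ho : orderOf (phi (2 ^ m) F σ * iot (2 ^ m) F) = 2 := by
    refine orderOf_eq_prime ?_ ?_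
    · have h1 : σ * σ = 1 := by rw [← sq, ← hσ]; exact pow_orderOf_eq_one σ
      rw [sq, mul_assoc, ← mul_assoc (iot (2 ^ m) F), iot_mul_phi, mul_assoc (phi (2 ^ m) F σ) (iot (2 ^ m) F),
        iot_mul_iot, mul_one, ← map_mul, h1, map_one]
    · intro h
      refine not_graph' (n := 2 ^ m) (by omega) (g := 1) (σ := σ) (τ := 1) ?_
      rw [map_one, one_mul, map_one]
      exact h
  obtain ⟨x, hx⟩ := exists_mul hinn hω hF hY ho hfix (by
    rw [hBo]
    exact (Nat.coprime_primes Nat.prime_two hw.prime).2 (Ne.symm (hw.ne_two (Nat.mul_pos (by omega) hk))))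
  exact no_two hF (by omega) hw.prime (Or.inr (hw.ord_mul (by omega))) ⟨x, by rw [hx, hBo]⟩

end

end Cfsg.Agent.H414.T29
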