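import Cfsg.Agent.H403.LinChar

/-!
# Element orders of `PSL_n(q)`, `n = 2 ^ m`, `q = 2 ^ k` (helper414, for S3629)

* `two_part` : no element order is divisible by `2 ^ (m + 1)`;
* `far` : `w ∣ o(g)`, `ord_w(q) = n - 1` ⇒ `o(g) ∣ q ^ (n - 1) - 1`;
* `top` : `w ∣ o(g)`, `ord_w(q) = n` ⇒ `o(g) ∣ (q ^ n - 1) / (q - 1)`;
* `three` : `o(g) = 4 s w`, `ord_w(q) = n - 3`, `s ≠ 2` prime, `s ≠ w` ⇒ `s ∣ q ^ (n - 3) - 1`.
-/

set_option autoImplicit false
set_option linter.unusedSectionVars false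

namespace Cfsg.Agent.H414.T29

open Polynomial Function Cfsg.Agent.H403 NumTop

/-- the linear group -/
abbrev PL (m : ℕ) (F : Type*) [Field F] := Matrix.ProjectiveSpecialLinearGroup (Fin (2 ^ m)) F

section

variable {F : Type*} [Field F] [Fintype F] {k m : ℕ}

theorem charTwo (hF : Fintype.card F = 2 ^ k) : CharP F 2 := by
  obtain ⟨p, hp⟩ := CharP.exists F
  obtain ⟨a, hpp, ha⟩ := FiniteField.card F p
  rw [hF] at ha
  have h1 : p ∣ 2 ^ k := by rw [ha]; exact dvd_pow_self p a.pos.ne'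
  have h2 := (Nat.prime_dvd_prime_iff_eq hpp Nat.prime_two).1 (hpp.dvd_of_dvd_pow h1)
  rwa [h2] at hp

theorem charTwo_ext (E : Type*) [Field E] [Algebra F E] (hF : Fintype.card F = 2 ^ k) : CharP E 2 := by
  have := charTwo hF
  exact charP_of_injective_algebraMap (algebraMap F E).injective 2

theorem one_lt (hF : Fintype.card F = 2 ^ k) : 1 ≤ k := by
  rcases Nat.eq_zero_or_pos k with rfl | h
  · have := Fintype.one_lt_card (α := F)
    rw [hF] at this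
    simp at this
  · exact h

theorem pow_eq_one_iff {E : Type*} [Field E] [CharP E 2] (a t : ℕ) (x : E) : x ^ (2 ^ a * t) = 1 ↔ x ^ t = 1 := by
  have : Fact (Nat.Prime 2) := ⟨Nat.prime_two⟩
  have : ExpChar E 2 := ExpChar.prime Nat.prime_two
  exact ExpChar.pow_prime_pow_mul_eq_one_iff 2 a t x

/-- matrices of the elements -/
theorem exists_mat (E : Type*) [Field E] [IsAlgClosed E] [Algebra F E] (hF : Fintype.card F = 2 ^ k) (g : PL m F) :
    ∃ M : Matrix (Fin (2 ^ m)) (Fin (2 ^ m)) F, M.det = 1 ∧ Cl ((2 ^ k : ℕ) : ℤ) (evs E M) ∧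
      (∀ j : ℕ, g ^ j = 1 ↔ M ^ j = 1) ∧
      ∀ j : ℕ, g ^ j = 1 ↔ ∃ c : F, M ^ j = c • (1 : Matrix (Fin (2 ^ m)) (Fin (2 ^ m)) F) := by
  have := charTwo hF
  obtain ⟨M, h1, h2, h3⟩ := lin_psl (E := E) hF g
  refine ⟨M, h1, h2, fun j => ?_, h3⟩
  rw [h3]
  constructor
  · rintro ⟨c, hc⟩
    have h4 := congrArg Matrix.det hc
    rw [Matrix.det_pow, h1, one_pow, Matrix.det_smul, Matrix.det_one, mul_one, Fintype.card_fin] at h4
    have h5 : c = 1 := by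
      have := (pow_eq_one_iff (E := F) m 1 c).1 (by rw [mul_one]; exact h4.symm)
      rwa [pow_one] at this
    rw [hc, h5, one_smul]
  · intro h
    exact ⟨1, by rw [one_smul, h]⟩

theorem orderOf_eq_of {G : Type*} [Group G] {g : G} {M : Matrix (Fin (2 ^ m)) (Fin (2 ^ m)) F}
    (h : ∀ j : ℕ, g ^ j = 1 ↔ M ^ j = 1) : orderOf g = orderOf M := by
  rw [orderOf_eq_orderOf_iff]
  exact h

variable {E : Type*} [Field E] [IsAlgClosed E] [Algebra F E]

/-- `M ^ (t n) = 1` if all eigenvalues have order dividing `t` -/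
theorem pow_of_evs (hF : Fintype.card F = 2 ^ k) {M : Matrix (Fin (2 ^ m)) (Fin (2 ^ m)) F} {t : ℕ}
    (h : ∀ y ∈ evs E M, y ^ t = 1) : M ^ (t * 2 ^ m) = 1 := by
  have := charTwo hF
  have : Fact (Nat.Prime 2) := ⟨Nat.prime_two⟩
  have h1 : M.charpoly ∣ (X ^ t - 1 : F[X]) ^ Fintype.card (Fin (2 ^ m)) := by
    refine charpoly_dvd_pow E (P := X ^ t - 1) fun y hy => ?_
    simp [h y hy]
  rw [Fintype.card_fin, sub_pow_char_pow, one_pow, ← pow_mul] at h1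
  have h2 := aeval_eq_of_dvd h1
  rw [map_sub, map_pow, aeval_X, map_one, sub_eq_zero] at h2
  exact h2

theorem pow_evs {M : Matrix (Fin (2 ^ m)) (Fin (2 ^ m)) F} {N : ℕ} (h : M ^ N = 1) {y : E} (hy : y ∈ evs E M) :
    y ^ N = 1 := by
  have := pow_of_mem_evs E (c := (1 : F)) (by rw [h, one_smul]) hy
  rwa [map_one] at this

theorem pow_eq_one_of_nodup {M : Matrix (Fin (2 ^ m)) (Fin (2 ^ m)) F} {N : ℕ} (hN : 0 < N) (hn : (evs E M).Nodup)
    (h : ∀ y ∈ evs E M, y ^ N = 1) : M ^ N = 1 := by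
  have := pow_eq_smul_of_nodup E (c := (1 : F)) hN hn (fun y hy => by rw [h y hy, map_one])
  rwa [one_smul] at this

end

section

variable {F : Type*} [Field F] [Fintype F] {k m : ℕ}

/-- **The `2`-exponent.** -/
theorem two_part (hF : Fintype.card F = 2 ^ k) (g : PL m F) : ¬ 2 ^ (m + 1) ∣ orderOf g := by
  intro hd
  obtain ⟨M, -, -, hM, -⟩ := exists_mat (AlgebraicClosure F) hF g
  have := charTwo_ext (AlgebraicClosure F) hF
  obtain ⟨a, t, ht, hN⟩ := Nat.exists_eq_pow_mul_and_not_dvd (n := orderOf g) (orderOf_pos g).ne' 2 (by norm_num)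
  have h1 : M ^ orderOf g = 1 := (hM _).1 (pow_orderOf_eq_one g)
  have h2 : ∀ y ∈ evs (AlgebraicClosure F) M, y ^ t = 1 := fun y hy => by
    have h3 := pow_evs h1 hy
    rw [hN] at h3
    exact (pow_eq_one_iff _ _ _).1 h3
  have h3 := (hM _).2 (pow_of_evs hF h2)
  have h4 := hd.trans (orderOf_dvd_of_pow_eq_one h3)
  have h5 : Nat.Coprime (2 ^ (m + 1)) t := (Nat.Coprime.pow_left _ ((Nat.Prime.coprime_iff_not_dvd Nat.prime_two).2 ht))
  have h6 := Nat.le_of_dvd (by positivity) (h5.dvd_of_dvd_mul_left h4)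
  have := Nat.pow_lt_pow_right (a := 2) (by norm_num) (Nat.lt_succ_self m)
  omega

/-- the eigenvalue with large orbit -/
theorem exists_orb (hF : Fintype.card F = 2 ^ k) {g : PL m F} {E : Type*} [Field E] [IsAlgClosed E] [Algebra F E]
    {M : Matrix (Fin (2 ^ m)) (Fin (2 ^ m)) F} (hM : Cl ((2 ^ k : ℕ) : ℤ) (evs E M))
    (hMg : ∀ j : ℕ, g ^ j = 1 ↔ ∃ c : F, M ^ j = c • (1 : Matrix (Fin (2 ^ m)) (Fin (2 ^ m)) F)) {w i : ℕ}
    (hw : w.Prime) (hi : orderOf ((2 ^ k : ℕ) : ZMod w) = i) (hi2 : 2 ≤ i) (hi' : 2 ^ m < 2 * i)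
    (hg : w ∣ orderOf g) :
    ∃ y ∈ evs E M, per ((2 ^ k : ℕ) : ℤ) y = i := by
  have hq2 : 2 ≤ 2 ^ k := Nat.one_lt_two_pow (by have := one_lt hF; omega)
  have hF' : Fintype.card F = (2 ^ k) ^ (cond true 0 1 + 1) := by simpa using hF
  have hx : (xv true (2 ^ k) : ℤ) = ((2 ^ k : ℕ) : ℤ) := rfl
  have hi0 : orderOf ((xv true (2 ^ k) : ℤ) : ZMod w) = i := by rw [hx]; simpa using hi
  obtain ⟨s, hs⟩ := hg
  have hs0 : 0 < s := by
    rcases Nat.eq_zero_or_pos s with rfl | h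
    · rw [mul_zero] at hs; exact absurd hs (orderOf_pos g).ne'
    · exact h
  obtain ⟨ζ, hζ, hζ0, hζ1, hA, y, hy, hyA⟩ := nontriv (E := E) hF' Nat.one_le_two_pow hM
    hMg hw hs0 (not_dvd_AA_one (by omega) hi0 hi2) (not_dvd_q hw hi0 (by omega)) hs
  exact ⟨y, hy, per_eq hM hy hw hi0 (hA y hy) hyA (by rw [card_evs, Fintype.card_fin]; exact hi')⟩

theorem pow_sub_one_of_fix {E : Type*} [Field E] {x : E} {a : ℕ} (ha : 1 ≤ a) (h0 : x ≠ 0) (h : x ^ a = x) :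
    x ^ (a - 1) = 1 := by
  have h1 : x ^ (a - 1) * x = x := by rw [← pow_succ, Nat.sub_add_cancel ha, h]
  exact mul_right_cancel₀ h0 (by rw [h1, one_mul])

theorem pow_of_per {E : Type*} [Field E] {q : ℕ} {R : Multiset E} (h : Cl (q : ℤ) R) (hq : 1 ≤ q) {y : E}
    (hy : y ∈ R) {z : E} (hz : z ∈ orb (q : ℤ) y) : z ^ (q ^ per (q : ℤ) y - 1) = 1 := by
  obtain ⟨j, rfl⟩ := mem_orb hz
  have h0 := h.ne_zero hy
  have h1 : y ^ (q ^ per (q : ℤ) y) = y := by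
    have := pow_per (q : ℤ) y
    rwa [← Nat.cast_pow, zpow_natCast] at this
  have h2 : y ^ (q ^ per (q : ℤ) y - 1) = 1 := pow_sub_one_of_fix (Nat.one_le_pow _ _ hq) h0 h1
  rw [← Nat.cast_pow, zpow_natCast, ← pow_mul, mul_comm, pow_mul, h2, one_pow]

/-- `ord_w(q) = n - 1` -/
theorem far (hF : Fintype.card F = 2 ^ k) (hm : 2 ≤ m) (g : PL m F) {w : ℕ} (hw : w.Prime)
    (hi : orderOf ((2 ^ k : ℕ) : ZMod w) = 2 ^ m - 1) (hg : w ∣ orderOf g) :
    orderOf g ∣ (2 ^ k) ^ (2 ^ m - 1) - 1 := by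
  have hn4 : 4 ≤ 2 ^ m := by
    calc 4 = 2 ^ 2 := rfl
      _ ≤ 2 ^ m := Nat.pow_le_pow_right (by norm_num) hm
  obtain ⟨M, -, hM, hMg, hMg'⟩ := exists_mat (AlgebraicClosure F) hF g
  obtain ⟨y, hy, hper⟩ := exists_orb hF hM hMg' hw hi (by omega) (by omega) hg
  have hk := one_lt hF
  have hq : 2 ≤ 2 ^ k := Nat.one_lt_two_pow (by omega)
  have hcard : Multiset.card (evs (AlgebraicClosure F) M) = 2 ^ m := by rw [card_evs, Fintype.card_fin]
  obtain ⟨μ, hR, hμ⟩ := eq_cons_orb hM hy (by rw [hcard, hper]; omega)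
  apply orderOf_dvd_of_pow_eq_one
  rw [hMg]
  have hpos : 0 < (2 ^ k) ^ (2 ^ m - 1) - 1 := by
    have : 1 < (2 ^ k) ^ (2 ^ m - 1) := Nat.one_lt_pow (by omega) (by omega)
    omega
  refine pow_eq_one_of_nodup (E := AlgebraicClosure F) hpos ?_ ?_
  · rw [hR, Multiset.nodup_cons]
    exact ⟨notMem_orb hM (by omega) hμ, orb_nodup _ _⟩
  · intro z hz
    rw [hR, Multiset.mem_cons] at hz
    rcases hz with rfl | hz
    · have h0 : z ≠ 0 := hM.ne_zero (by rw [hR]; exact Multiset.mem_cons_self _ _)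
      have h1 : z ^ (2 ^ k - 1) = 1 := pow_sub_one_of_fix (by omega) h0 (by rwa [zpow_natCast] at hμ)
      obtain ⟨c, hc⟩ : 2 ^ k - 1 ∣ (2 ^ k) ^ (2 ^ m - 1) - 1 := by
        have := Nat.sub_dvd_pow_sub_pow (2 ^ k) 1 (2 ^ m - 1)
        rwa [one_pow] at this
      rw [hc, pow_mul, h1, one_pow]
    · have := pow_of_per hM (by omega) hy hz
      rwa [hper] at this

/-- `ord_w(q) = n` -/
theorem top (hF : Fintype.card F = 2 ^ k) (hm : 2 ≤ m) (g : PL m F) {w : ℕ} (hw : w.Prime)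
    (hi : orderOf ((2 ^ k : ℕ) : ZMod w) = 2 ^ m) (hg : w ∣ orderOf g) :
    orderOf g ∣ ((2 ^ k) ^ (2 ^ m) - 1) / (2 ^ k - 1) := by
  have hn4 : 4 ≤ 2 ^ m := by
    calc 4 = 2 ^ 2 := rfl
      _ ≤ 2 ^ m := Nat.pow_le_pow_right (by norm_num) hm
  obtain ⟨M, hdet, hM, hMg, hMg'⟩ := exists_mat (AlgebraicClosure F) hF g
  obtain ⟨y, hy, hper⟩ := exists_orb hF hM hMg' hw hi (by omega) (by omega) hg
  have hk := one_lt hF
  have hq : 2 ≤ 2 ^ k := Nat.one_lt_two_pow (by omega)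
  have hcard : Multiset.card (evs (AlgebraicClosure F) M) = 2 ^ m := by rw [card_evs, Fintype.card_fin]
  have hR := eq_orb hM hy (by rw [hcard, hper])
  apply orderOf_dvd_of_pow_eq_one
  rw [hMg]
  have hgeom : ∑ j ∈ Finset.range (2 ^ m), (2 ^ k) ^ j = ((2 ^ k) ^ (2 ^ m) - 1) / (2 ^ k - 1) :=
    Nat.geomSum_eq hq _
  have hprod : y ^ (∑ j ∈ Finset.range (2 ^ m), (2 ^ k) ^ j) = 1 := by
    have h1 := prod_evs (AlgebraicClosure F) M
    rw [hdet, map_one, hR] at h1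
    have h2 : (orb (((2 ^ k : ℕ) : ℤ)) y).prod = ∏ j ∈ Finset.range (per ((2 ^ k : ℕ) : ℤ) y), y ^ ((2 ^ k) ^ j) := by
      unfold orb
      rw [← Finset.range_val, Finset.prod_map_val]
      refine Finset.prod_congr rfl fun j _ => ?_
      rw [← Nat.cast_pow, zpow_natCast]
    rw [h2, hper] at h1
    rw [← Finset.prod_pow_eq_pow_sum]
    exact h1
  have hpos : 0 < ((2 ^ k) ^ (2 ^ m) - 1) / (2 ^ k - 1) := by
    rw [← hgeom]
    exact Finset.sum_pos (fun j _ => by positivity) ⟨0, by simp⟩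
  refine pow_eq_one_of_nodup (E := AlgebraicClosure F) hpos (by rw [hR]; exact orb_nodup _ _) ?_
  intro z hz
  rw [hR] at hz
  obtain ⟨j, rfl⟩ := mem_orb hz
  rw [zpow_pow_comm, ← hgeom, hprod, one_zpow]

theorem eq_one_of_two_pows {E : Type*} [Field E] {z : E} {w A s : ℕ} (hc : Nat.Coprime A s) (h1 : z ^ (w * A) = 1)
    (h2 : z ^ (w * s) = 1) : z ^ w = 1 := by
  have h3 := pow_gcd_eq_one.2 ⟨h1, h2⟩
  rwa [Nat.gcd_mul_left, hc, mul_one] at h3

/-- `ord_w(q) = n - 3` -/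
theorem three (hF : Fintype.card F = 2 ^ k) (hm : 3 ≤ m) (g : PL m F) {w s : ℕ} (hw : w.Prime) (hs : s.Prime)
    (hs2 : s ≠ 2) (hi : orderOf ((2 ^ k : ℕ) : ZMod w) = 2 ^ m - 3) (hg : orderOf g = 4 * (s * w)) :
    s ∣ (2 ^ k) ^ (2 ^ m - 3) - 1 := by
  classical
  have hn8 : 8 ≤ 2 ^ m := by
    calc 8 = 2 ^ 3 := rfl
      _ ≤ 2 ^ m := Nat.pow_le_pow_right (by norm_num) hm
  have hk := one_lt hF
  have hq : 2 ≤ 2 ^ k := Nat.one_lt_two_pow (by omega)
  have hchar := charTwo_ext (AlgebraicClosure F) hF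
  obtain ⟨M, hdet, hM, hMg, hMg'⟩ := exists_mat (AlgebraicClosure F) hF g
  obtain ⟨y, hy, hper⟩ := exists_orb hF hM hMg' hw hi (by omega) (by omega)
    (by rw [hg]; exact Dvd.intro_left (4 * s) (by ring))
  have hcard : Multiset.card (evs (AlgebraicClosure F) M) = 2 ^ m := by rw [card_evs, Fintype.card_fin]
  set A := (2 ^ k) ^ (2 ^ m - 3) - 1 with hA
  by_contra hsA
  have hcop : Nat.Coprime A s := ((Nat.Prime.coprime_iff_not_dvd hs).2 hsA).symm
  have hsw : s ≠ w := by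
    rintro rfl
    apply hsA
    have h1 : ((2 ^ k : ℕ) : ZMod s) ^ (2 ^ m - 3) = 1 := orderOf_dvd_iff_pow_eq_one.1 (by rw [hi])
    rw [hA, ← ZMod.natCast_eq_zero_iff, Nat.cast_sub (Nat.one_le_pow _ _ (by omega)), Nat.cast_pow, h1]
    simp
  have hall : ∀ z ∈ evs (AlgebraicClosure F) M, z ^ (w * s) = 1 := fun z hz => by
    have h1 := pow_evs ((hMg _).1 (pow_orderOf_eq_one g)) hz
    rw [hg, show 4 * (s * w) = 2 ^ 2 * (w * s) by ring] at h1
    exact (pow_eq_one_iff _ _ _).1 h1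
  have horb : ∀ z ∈ orb (((2 ^ k : ℕ) : ℤ)) y, z ^ w = 1 := fun z hz => by
    have h1 := pow_of_per hM (by omega) hy hz
    rw [hper] at h1
    refine eq_one_of_two_pows hcop ?_ (hall z (Multiset.mem_of_le (hM.orb_le hy) hz))
    rw [mul_comm, pow_mul, h1, one_pow]
  -- an eigenvalue outside
  have hex : ∃ t ∈ evs (AlgebraicClosure F) M, t ^ w ≠ 1 := by
    by_contra hcon
    push Not at hcon
    have h1 := (hMg _).2 (pow_of_evs hF hcon)
    have h2 : s ∣ w * 2 ^ m := (Dvd.intro (4 * w) (by rw [hg]; ring)).trans (orderOf_dvd_of_pow_eq_one h1)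
    rcases hs.dvd_mul.1 h2 with h3 | h3
    · exact hsw ((Nat.prime_dvd_prime_iff_eq hs hw).1 h3)
    · exact hs2 ((Nat.prime_dvd_prime_iff_eq hs Nat.prime_two).1 (hs.dvd_of_dvd_pow h3))
  obtain ⟨t, ht, htw⟩ := hex
  have htfix : t ^ (((2 ^ k : ℕ) : ℤ)) ≠ t := by
    intro h
    apply htw
    have h1 : t ^ (2 ^ k - 1) = 1 := pow_sub_one_of_fix (by omega) (hM.ne_zero ht) (by rwa [zpow_natCast] at h)
    refine eq_one_of_two_pows hcop ?_ (hall t ht)
    obtain ⟨c, hc⟩ : 2 ^ k - 1 ∣ A := by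
      have := Nat.sub_dvd_pow_sub_pow (2 ^ k) 1 (2 ^ m - 3)
      rwa [one_pow] at this
    rw [hc, show w * ((2 ^ k - 1) * c) = (2 ^ k - 1) * (w * c) by ring, pow_mul, h1, one_pow]
  obtain ⟨T, hT⟩ := Multiset.le_iff_exists_add.1 (hM.orb_le hy)
  have hTc : Multiset.card T = 3 := by
    have := congrArg Multiset.card hT
    rw [Multiset.card_add, card_orb, hcard, hper] at this
    omega
  have htT : t ∈ T := by
    have h1 := ht
    rw [hT, Multiset.mem_add] at h1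
    exact h1.resolve_left fun h => htw (horb t h)
  have hCl : Cl (((2 ^ k : ℕ) : ℤ)) T := by
    refine ⟨hM.inj, ?_, fun h => hM.zero (by rw [hT]; exact Multiset.mem_add.2 (Or.inr h))⟩
    have h1 := hM.map
    rw [hT, Multiset.map_add, orb_map hM] at h1
    exact add_left_cancel h1
  have hpt1 : per (((2 ^ k : ℕ) : ℤ)) t ≠ 1 := by
    intro h
    have := pow_per (((2 ^ k : ℕ) : ℤ)) t
    rw [h, pow_one] at this
    exact htfix this
  have hpt0 := hCl.per_pos htT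
  have hpt3 : per (((2 ^ k : ℕ) : ℤ)) t ≤ 3 := by
    rw [← card_orb, ← hTc]
    exact Multiset.card_le_card (hCl.orb_le htT)
  have hdisj_orb : ∀ z ∈ orb (((2 ^ k : ℕ) : ℤ)) t, z ∉ orb (((2 ^ k : ℕ) : ℤ)) y := by
    intro z hz hz'
    have h1 := horb z hz'
    obtain ⟨j, rfl⟩ := mem_orb hz
    apply htw
    rw [zpow_pow_comm, ← Nat.cast_pow, zpow_natCast, ← pow_mul] at h1
    have h2 := (pow_eq_one_iff (k * j) 1 (t ^ w)).1 (by
      rw [mul_one, ← pow_mul]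
      convert h1 using 2
      ring)
    rwa [pow_one] at h2
  have hnd : (evs (AlgebraicClosure F) M).Nodup := by
    rw [hT, Multiset.nodup_add]
    have h23 : per (((2 ^ k : ℕ) : ℤ)) t = 3 ∨ per (((2 ^ k : ℕ) : ℤ)) t = 2 := by omega
    rcases h23 with h3 | h3
    · have hT' := eq_orb hCl htT (by rw [hTc, h3])
      rw [hT']
      refine ⟨orb_nodup _ _, orb_nodup _ _, ?_⟩
      rw [Multiset.disjoint_left]
      intro z hz hz'
      exact hdisj_orb z hz' hz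
    · obtain ⟨μ, hT', hμ⟩ := eq_cons_orb hCl htT (by rw [hTc, h3])
      rw [hT', Multiset.nodup_cons]
      refine ⟨orb_nodup _ _, ⟨notMem_orb hCl (by omega) hμ, orb_nodup _ _⟩, ?_⟩
      rw [Multiset.disjoint_left]
      intro z hz hz'
      rw [Multiset.mem_cons] at hz'
      rcases hz' with rfl | hz'
      · exact notMem_orb hM (by omega) hμ hz
      · exact hdisj_orb z hz' hz
  have h1 := pow_eq_one_of_nodup (Nat.mul_pos hw.pos hs.pos) hnd hall
  have h2 := orderOf_dvd_of_pow_eq_one ((hMg _).2 h1)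
  rw [hg] at h2
  have h3 := Nat.le_of_dvd (Nat.mul_pos hw.pos hs.pos) h2
  have h4 : 0 < w * s := Nat.mul_pos hw.pos hs.pos
  have h5 : s * w = w * s := mul_comm _ _
  omega

end

end Cfsg.Agent.H414.T29
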